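import Cfsg.Prelude.Def_Quasithin
import Cfsg.Agent.Lib.Cores
set_option linter.all false

/-!
# Sylow 2-normalizers and maximal 2-local subgroups (S1825)

* `NT G`: every maximal 2-local subgroup of `G` containing a Sylow 2-subgroup `T` contains `N_G(T)`.
* `NT.congr`: transport along an isomorphism.
* `NT.of_self`: groups with self-normalising Sylow 2-subgroups (one Sylow subgroup suffices: `NT.of_self_one`).
* `self_of_odd_aut`: in a group of even characteristic, `N_G(T) = T` if `T` has no automorphism of odd order.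
-/

set_option autoImplicit false

namespace Cfsg.Agent.QTNorm

open Cfsg

universe u v

/-- every maximal 2-local subgroup of `G` over a Sylow 2-subgroup `T` contains `N_G(T)` -/
def NT (G : Type u) [Group G] : Prop :=
  ∀ (T : Sylow 2 G) (M : Subgroup G), IsMaximalTwoLocal M → (T : Subgroup G) ≤ M →
    Subgroup.normalizer ((T : Subgroup G) : Set G) ≤ M

variable {G : Type u} [Group G] {H : Type v} [Group H]

theorem normalizer_map (e : G ≃* H) (K : Subgroup G) :
    (Subgroup.normalizer (K : Set G)).map e.toMonoidHom =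
      Subgroup.normalizer ((K.map e.toMonoidHom : Subgroup H) : Set H) := by
  ext x
  constructor
  · rintro ⟨y, hy, rfl⟩
    rw [Subgroup.mem_normalizer_iff]
    intro z
    constructor
    · rintro ⟨w, hw, rfl⟩
      refine ⟨y * w * y⁻¹, (Subgroup.mem_normalizer_iff.1 hy w).1 hw, ?_⟩
      simp
    · rintro ⟨w, hw, hw'⟩
      have h1 : z = e (y⁻¹ * w * y) := by
        simp only [map_mul, map_inv]
        rw [show e w = e.toMonoidHom w from rfl, hw']
        show z = (e y)⁻¹ * (e y * z * (e y)⁻¹) * e y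
        group
      rw [h1]
      refine ⟨y⁻¹ * w * y, ?_, rfl⟩
      have h2 := (Subgroup.mem_normalizer_iff.1 (inv_mem hy) w).1 hw
      rwa [inv_inv] at h2
  · intro hx
    refine ⟨e.symm x, ?_, by simp⟩
    show e.symm x ∈ Subgroup.normalizer (K : Set G)
    rw [Subgroup.mem_normalizer_iff]
    intro z
    have h1 := Subgroup.mem_normalizer_iff.1 hx (e z)
    have h2 : ∀ w : G, e w ∈ K.map e.toMonoidHom ↔ w ∈ K := by
      intro w
      constructor
      · rintro ⟨w', hw', h3⟩
        have h4 : w' = w := e.injective h3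
        rwa [← h4]
      · intro hw
        exact ⟨w, hw, rfl⟩
    rw [h2] at h1
    rw [h1, show x * e z * x⁻¹ = e (e.symm x * z * (e.symm x)⁻¹) by simp, h2]

theorem isTwoLocal_map (e : G ≃* H) {N : Subgroup G} (h : IsTwoLocal N) :
    IsTwoLocal (N.map e.toMonoidHom) := by
  obtain ⟨T, hT, h1, rfl⟩ := h
  refine ⟨T.map e.toMonoidHom, hT.map _, ?_, normalizer_map e T⟩
  rw [Ne, Subgroup.map_eq_bot_iff_of_injective _ e.injective]
  exact h1

theorem map_symm_map (e : G ≃* H) (N : Subgroup G) : (N.map e.toMonoidHom).map e.symm.toMonoidHom = N := by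
  rw [Subgroup.map_map]
  have : e.symm.toMonoidHom.comp e.toMonoidHom = MonoidHom.id G := by
    ext x; simp
  rw [this, Subgroup.map_id]

theorem map_map_symm (e : G ≃* H) (N : Subgroup H) : (N.map e.symm.toMonoidHom).map e.toMonoidHom = N := by
  rw [Subgroup.map_map]
  have : e.toMonoidHom.comp e.symm.toMonoidHom = MonoidHom.id H := by
    ext x; simp
  rw [this, Subgroup.map_id]

theorem isMaximalTwoLocal_map (e : G ≃* H) {M : Subgroup G} (h : IsMaximalTwoLocal M) :
    IsMaximalTwoLocal (M.map e.toMonoidHom) := by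
  refine ⟨isTwoLocal_map e h.1, fun N hN hMN => ?_⟩
  have h1 := h.2 (N.map e.symm.toMonoidHom) (isTwoLocal_map e.symm hN) (by
    rw [← map_symm_map e M]
    exact Subgroup.map_mono hMN)
  rw [← h1, map_map_symm]

/-- transport of `NT` along an isomorphism -/
theorem NT.congr (e : G ≃* H) (h : NT G) : NT H := by
  intro T M hM hT
  let T' : Sylow 2 G := T.comapOfInjective e.toMonoidHom e.injective (by
    rw [MonoidHom.range_eq_top.2 e.surjective]; exact le_top)
  have hT' : (T' : Subgroup G) = (T : Subgroup H).map e.symm.toMonoidHom := by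
    exact Subgroup.comap_equiv_eq_map_symm e (T : Subgroup H)
  have h1 := h T' (M.map e.symm.toMonoidHom) (isMaximalTwoLocal_map e.symm hM) (by
    rw [hT']; exact Subgroup.map_mono hT)
  rw [hT', ← normalizer_map e.symm] at h1
  have h2 := Subgroup.map_mono (f := e.toMonoidHom) h1
  rwa [map_map_symm, map_map_symm] at h2

/-- groups with self-normalising Sylow 2-subgroups -/
theorem NT.of_self (h : ∀ T : Sylow 2 G, Subgroup.normalizer ((T : Subgroup G) : Set G) ≤ (T : Subgroup G)) :
    NT G :=
  fun T _ _ hT => (h T).trans hT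

/-- it is enough to look at one Sylow 2-subgroup -/
theorem self_all [Finite G] (T₀ : Sylow 2 G)
    (h : Subgroup.normalizer ((T₀ : Subgroup G) : Set G) ≤ (T₀ : Subgroup G)) (T : Sylow 2 G) :
    Subgroup.normalizer ((T : Subgroup G) : Set G) ≤ (T : Subgroup G) := by
  have : Fact (Nat.Prime 2) := ⟨Nat.prime_two⟩
  obtain ⟨g, rfl⟩ := MulAction.exists_smul_eq G T₀ T
  have h1 : ((g • T₀ : Sylow 2 G) : Subgroup G) = (T₀ : Subgroup G).map (MulAut.conj g).toMonoidHom := by
    rw [Sylow.coe_subgroup_smul]; rfl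
  rw [h1, ← normalizer_map (MulAut.conj g)]
  exact Subgroup.map_mono h

/-- groups with self-normalising Sylow 2-subgroups -/
theorem NT.of_self_one [Finite G] (T₀ : Sylow 2 G)
    (h : Subgroup.normalizer ((T₀ : Subgroup G) : Set G) ≤ (T₀ : Subgroup G)) : NT G :=
  NT.of_self (self_all T₀ h)

/-- an element of odd order of `N_G(T)`, `T` without automorphisms of odd order, centralises `T` -/
theorem mem_centralizer_of_odd [Finite G] (T : Subgroup G)
    (hR : ∀ t : MulAut T, Odd (orderOf t) → t = 1) {x : G} (hx : x ∈ Subgroup.normalizer (T : Set G))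
    (hodd : Odd (orderOf x)) : x ∈ Subgroup.centralizer (T : Set G) := by
  let f : Subgroup.normalizer (T : Set G) →* MulAut T := T.normalizerMonoidHom
  have h2 : Odd (orderOf (f ⟨x, hx⟩)) := by
    refine hodd.of_dvd_nat ?_
    have h3 : orderOf (⟨x, hx⟩ : Subgroup.normalizer (T : Set G)) = orderOf x := by
      rw [← Subgroup.orderOf_coe]
    rw [← h3]
    exact orderOf_map_dvd f _
  have h4 := hR _ h2
  rw [Subgroup.mem_centralizer_iff]
  intro t ht
  have h5 := congrArg (fun g : MulAut T => ((g ⟨t, ht⟩ : T) : G)) h4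
  have h6 : x * t * x⁻¹ = t := h5
  calc t * x = x * t * x⁻¹ * x := by rw [h6]
    _ = x * t := by group

/-- in a group of even characteristic `N_G(T) = T` if all elements of odd order of `N_G(T)` centralise `T` -/
theorem self_of_cent [Finite G] (hE : IsOfEvenCharacteristic G) (T : Sylow 2 G) (hT1 : (T : Subgroup G) ≠ ⊥)
    (hR : ∀ x ∈ Subgroup.normalizer ((T : Subgroup G) : Set G), Odd (orderOf x) →
      x ∈ Subgroup.centralizer ((T : Subgroup G) : Set G)) :
    Subgroup.normalizer ((T : Subgroup G) : Set G) ≤ (T : Subgroup G) := by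
  have : Fact (Nat.Prime 2) := ⟨Nat.prime_two⟩
  set N := Subgroup.normalizer ((T : Subgroup G) : Set G) with hN
  have hTN : (T : Subgroup G) ≤ N := Subgroup.le_normalizer
  have hC : IsOfCharacteristicTwo N := hE N ⟨(T : Subgroup G), T.2, hT1, rfl⟩ ⟨T, hTN⟩
  -- the core is a 2-group inside `T`
  have hcore : (pCore 2 N).map N.subtype ≤ (T : Subgroup G) := by
    have h1 : pCore 2 N ≤ ((T.subtype hTN : Sylow 2 N) : Subgroup N) := Lib.Cores.pCore_le_sylow _
    rintro _ ⟨y, hy, rfl⟩
    have h2 := h1 hy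
    rw [Sylow.coe_subtype, Subgroup.mem_subgroupOf] at h2
    exact h2
  have hcent : ∀ y ∈ Subgroup.centralizer ((T : Subgroup G) : Set G), y ∈ (T : Subgroup G) := by
    intro y hy
    have hyN : y ∈ N := Subgroup.centralizer_le_normalizer _ hy
    have h1 : (⟨y, hyN⟩ : N) ∈ Subgroup.centralizer (pCore 2 N : Set N) := by
      rw [Subgroup.mem_centralizer_iff]
      intro z hz
      apply Subtype.ext
      exact Subgroup.mem_centralizer_iff.1 hy z (hcore ⟨z, hz, rfl⟩)
    exact hcore ⟨_, hC h1, rfl⟩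
  intro x hx
  -- the 2'-part of `x` is trivial
  have hpos : 0 < orderOf x := orderOf_pos x
  obtain ⟨k, m, hm, hkm⟩ := Nat.exists_eq_two_pow_mul_odd hpos.ne'
  have h1 : orderOf (x ^ 2 ^ k) = m := by
    rw [orderOf_pow_of_dvd (by positivity) ⟨m, hkm⟩, hkm, Nat.mul_div_cancel_left _ (by positivity)]
  have h2 : x ^ 2 ^ k ∈ (T : Subgroup G) :=
    hcent _ (hR _ (pow_mem hx _) (by rw [h1]; exact hm))
  have h3 : x ^ 2 ^ k = 1 := by
    obtain ⟨j, hj⟩ := T.2 ⟨_, h2⟩
    have h4 : orderOf (x ^ 2 ^ k) ∣ 2 ^ j := orderOf_dvd_of_pow_eq_one (by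
      have := congrArg Subtype.val hj
      simpa using this)
    rw [h1] at h4
    have h5 : m = 1 := by
      obtain ⟨i, -, hi⟩ := (Nat.dvd_prime_pow Nat.prime_two).1 h4
      rcases Nat.eq_zero_or_pos i with h0 | h0
      · rw [hi, h0, pow_zero]
      · exfalso
        rw [hi] at hm
        have : Even (2 ^ i) := (Nat.even_pow.2 ⟨even_two, h0.ne'⟩)
        exact (Nat.not_odd_iff_even.2 this) hm
    rw [← orderOf_eq_one_iff, h1, h5]
  -- so `x` is a 2-element of `N(T)`
  have h4 : IsPGroup 2 (Subgroup.zpowers x) := by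
    intro ⟨y, hy⟩
    refine ⟨k, ?_⟩
    obtain ⟨i, rfl⟩ := Subgroup.mem_zpowers_iff.1 hy
    apply Subtype.ext
    show (x ^ i) ^ 2 ^ k = 1
    rw [← zpow_natCast, ← zpow_mul, mul_comm, zpow_mul, zpow_natCast, h3, one_zpow]
  have h5 : IsPGroup 2 (Subgroup.zpowers x ⊔ (T : Subgroup G) : Subgroup G) :=
    IsPGroup.to_sup_of_normal_right' h4 T.2 (by rw [Subgroup.zpowers_le]; exact hx)
  have h6 := T.3 h5 le_sup_right
  have h7 : x ∈ (Subgroup.zpowers x ⊔ (T : Subgroup G) : Subgroup G) :=
    Subgroup.mem_sup_left (Subgroup.mem_zpowers x)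
  have h8 : (Subgroup.zpowers x ⊔ (T : Subgroup G) : Subgroup G) = (T : Subgroup G) := h6
  rwa [h8] at h7

/-- in a group of even characteristic `N_G(T) = T` if `T` has no automorphisms of odd order -/
theorem self_of_odd_aut [Finite G] (hE : IsOfEvenCharacteristic G) (T : Sylow 2 G) (hT1 : (T : Subgroup G) ≠ ⊥)
    (hR : ∀ t : MulAut (T : Subgroup G), Odd (orderOf t) → t = 1) :
    Subgroup.normalizer ((T : Subgroup G) : Set G) ≤ (T : Subgroup G) :=
  self_of_cent hE T hT1 fun _ hx hodd => mem_centralizer_of_odd (T : Subgroup G) hR hx hodd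

end Cfsg.Agent.QTNorm
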