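import Mathlib
import Cfsg.Prelude.Def_Quasithin
import Cfsg.Agent.FastGrp
import Cfsg.Agent.Prune
set_option linter.all false
prune_inst 0x7f00000000000000000000000000000000000000000000000000000000000000000000000000000000000000000000000000000000000000000000000000000000000000000000000000000000000000003fffffffffffffffffffffffffffbeffbdffffffff
open scoped Cfsg.Agent.FastGrp

/-!
# Self-normalizing Sylow 2-subgroups

* `SN G`: every Sylow 2-subgroup of `G` is its own normalizer.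
* `SN.congr`, `sn_of_sylow`, `sn_of_odd`.
* `criterion`: `z` is the only involution centralizing `S0 ⊆ T`, the elements of odd order of `C(z)` lie in `K`,
  the elements of 2-power order of `K` lie in the 2-group `Q`, and some `d ∈ T` inverts `K / Q`.
-/

set_option autoImplicit false

namespace Cfsg.Agent.QTNorm.SelfNorm

open Subgroup

universe u v

/-- Sylow 2-subgroups are self-normalizing. -/
def SN (G : Type u) [Group G] : Prop :=
  ∀ T : Sylow 2 G, normalizer ((T : Subgroup G) : Set G) ≤ (T : Subgroup G)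

variable {G : Type u} [Group G]

theorem sn_of_sylow [Finite G] (T : Sylow 2 G)
    (h : normalizer ((T : Subgroup G) : Set G) ≤ (T : Subgroup G)) : SN G := by
  have hf : Fact (Nat.Prime 2) := ⟨Nat.prime_two⟩
  intro S
  obtain ⟨g, rfl⟩ := MulAction.exists_smul_eq G T S
  intro x hx
  rw [Sylow.coe_subgroup_smul, mem_pointwise_smul_iff_inv_smul_mem]
  apply h
  rw [mem_normalizer_iff] at hx ⊢
  intro y
  have h1 := hx (g * y * g⁻¹)
  rw [Sylow.coe_subgroup_smul] at h1
  simp only [mem_pointwise_smul_iff_inv_smul_mem] at h1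
  simp only [MulAut.smul_def, ← map_inv, MulAut.conj_apply, inv_inv] at h1 ⊢
  have e1 : g⁻¹ * (g * y * g⁻¹) * g = y := by group
  have e2 : g⁻¹ * (x * (g * y * g⁻¹) * x⁻¹) * g = g⁻¹ * x * g * y * (g⁻¹ * x * g)⁻¹ := by group
  rw [e1, e2] at h1
  exact h1

theorem SN.congr {G' : Type v} [Group G'] (e : G ≃* G') (h : SN G) : SN G' := by
  intro T x hx
  have hr : (T : Subgroup G') ≤ e.toMonoidHom.range := fun y _ => ⟨e.symm y, e.apply_symm_apply y⟩
  have h1 : normalizer (((T : Subgroup G').comap e.toMonoidHom : Subgroup G) : Set G) ≤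
      (T : Subgroup G').comap e.toMonoidHom := h (T.comapOfInjective e.toMonoidHom e.injective hr)
  have h2 : e.symm x ∈ (T : Subgroup G').comap e.toMonoidHom := by
    apply h1
    rw [mem_normalizer_iff] at hx ⊢
    intro y
    show e y ∈ (T : Subgroup G') ↔ e (e.symm x * y * (e.symm x)⁻¹) ∈ (T : Subgroup G')
    rw [map_mul, map_mul, map_inv, e.apply_symm_apply]
    exact hx (e y)
  have h3 : e (e.symm x) ∈ (T : Subgroup G') := h2
  rwa [e.apply_symm_apply] at h3

/-- It suffices that a Sylow 2-subgroup is normalized by no nontrivial element of odd order. -/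
theorem sn_of_odd [Finite G] (T : Sylow 2 G)
    (h : ∀ x ∈ normalizer ((T : Subgroup G) : Set G), Odd (orderOf x) → x = 1) : SN G := by
  have hf : Fact (Nat.Prime 2) := ⟨Nat.prime_two⟩
  refine sn_of_sylow T ?_
  have h2 : IsPGroup 2 (normalizer ((T : Subgroup G) : Set G)) := by
    rw [IsPGroup.iff_orderOf]
    intro x
    obtain ⟨m, k, hk, hm⟩ := Nat.exists_eq_two_pow_mul_odd (n := orderOf x) (orderOf_pos x).ne'
    have h1 : ((x : G) ^ (2 ^ m)) = 1 := by
      apply h
      · exact pow_mem x.2 _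
      · rw [orderOf_pow, orderOf_coe, hm]
        rw [Nat.gcd_eq_right (Dvd.intro k rfl), Nat.mul_div_cancel_left _ (by positivity)]
        exact hk
    have h3 : orderOf x ∣ 2 ^ m := by
      rw [← orderOf_coe]
      exact orderOf_dvd_of_pow_eq_one h1
    obtain ⟨j, -, hj⟩ := (Nat.dvd_prime_pow Nat.prime_two).1 h3
    exact ⟨j, hj⟩
  have h3 := T.is_maximal' h2 le_normalizer
  exact h3.le

/-- The involution in the centre. -/
theorem exists_central [Finite G] (T : Sylow 2 G) (h : 2 ∣ Nat.card G) :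
    ∃ z ∈ (T : Subgroup G), orderOf z = 2 ∧ ∀ t ∈ (T : Subgroup G), t * z = z * t := by
  have hf : Fact (Nat.Prime 2) := ⟨Nat.prime_two⟩
  have hT : IsPGroup 2 (T : Subgroup G) := T.isPGroup'
  have hdvd : 2 ∣ Nat.card (T : Subgroup G) := T.dvd_card_of_dvd_card h
  have : Nontrivial (T : Subgroup G) := by
    rw [← Finite.one_lt_card_iff_nontrivial]
    exact lt_of_lt_of_le one_lt_two (Nat.le_of_dvd Nat.card_pos hdvd)
  have hc := hT.center_nontrivial
  have h2 : IsPGroup 2 (center (T : Subgroup G)) := hT.to_subgroup _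
  obtain ⟨n, hn, hn'⟩ := (h2.nontrivial_iff_card).1 hc
  have hdvd : 2 ∣ Nat.card (center (T : Subgroup G)) := by
    rw [hn']; exact dvd_pow_self 2 hn.ne'
  obtain ⟨z, hz⟩ := exists_prime_orderOf_dvd_card' 2 hdvd
  refine ⟨((z : (T : Subgroup G)) : G), (z : (T : Subgroup G)).2, ?_, ?_⟩
  · rw [orderOf_coe, orderOf_coe]; exact hz
  · intro x hx
    have h3 := mem_center_iff.mp z.2 ⟨x, hx⟩
    exact congrArg Subtype.val h3

/-- **The criterion.** -/
theorem criterion [Finite G] {z d : G} {S0 : Set G} {R K Q : Subgroup G} (hR : IsPGroup 2 R)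
    (hS : S0 ⊆ R) (hz2 : orderOf z = 2)
    (hz : ∀ w : G, orderOf w = 2 → (∀ s ∈ S0, s * w = w * s) → w = z)
    (hK : ∀ x : G, x * z = z * x → Odd (orderOf x) → x ∈ K)
    (hKQ : ∀ x ∈ K, (∃ n : ℕ, x ^ 2 ^ n = 1) → x ∈ Q) (hQ : IsPGroup 2 Q)
    (hd : d ∈ R) (hdK : ∀ k ∈ K, d * k * d⁻¹ * k ∈ Q) (hdK' : ∀ k ∈ K, d * k * d⁻¹ ∈ K) : SN G := by
  have hf : Fact (Nat.Prime 2) := ⟨Nat.prime_two⟩
  obtain ⟨T, hT⟩ := hR.exists_le_sylow
  refine sn_of_odd T fun x hx hodd => ?_
  obtain ⟨w, hwT, hw2, hwc⟩ := exists_central T (hz2 ▸ orderOf_dvd_natCard z)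
  have hwz : w = z := hz w hw2 fun s hs => hwc s (hT (hS hs))
  subst hwz
  -- `x` centralizes the central involution
  have hxT : ∀ t, t ∈ (T : Subgroup G) ↔ x * t * x⁻¹ ∈ (T : Subgroup G) := mem_normalizer_iff.1 hx
  have hxi : ∀ t ∈ (T : Subgroup G), x⁻¹ * t * x ∈ (T : Subgroup G) := by
    intro t ht
    rw [hxT]
    have e : x * (x⁻¹ * t * x) * x⁻¹ = t := by group
    rw [e]; exact ht
  have h1 : x * w * x⁻¹ = w := by
    refine hz _ ?_ fun s hs => ?_
    · have e : x * w * x⁻¹ = MulAut.conj x w := rfl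
      rw [e, MulEquiv.orderOf_eq, hw2]
    · have h2 := hwc _ (hxi s (hT (hS hs)))
      calc s * (x * w * x⁻¹) = x * ((x⁻¹ * s * x) * w) * x⁻¹ := by group
        _ = x * (w * (x⁻¹ * s * x)) * x⁻¹ := by rw [h2]
        _ = x * w * x⁻¹ * s := by group
  have hxw : x * w = w * x := by
    calc x * w = x * w * x⁻¹ * x := by group
      _ = w * x := by rw [h1]
  have hxK := hK x hxw hodd
  -- the commutator
  have hc : d * x * d⁻¹ * x⁻¹ ∈ Q := by
    refine hKQ _ (mul_mem (hdK' x hxK) (inv_mem hxK)) ?_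
    have h3 : d * x * d⁻¹ * x⁻¹ ∈ (T : Subgroup G) := by
      have h4 := (hxT d⁻¹).1 (inv_mem (hT hd))
      have e : d * x * d⁻¹ * x⁻¹ = d * (x * d⁻¹ * x⁻¹) := by simp only [mul_assoc]
      rw [e]
      exact mul_mem (hT hd) h4
    obtain ⟨n, hn⟩ := T.isPGroup' ⟨_, h3⟩
    exact ⟨n, congrArg Subtype.val hn⟩
  have h5 : x ^ 2 ∈ Q := by
    have h6 := mul_mem (inv_mem hc) (hdK x hxK)
    have e : (d * x * d⁻¹ * x⁻¹)⁻¹ * (d * x * d⁻¹ * x) = x ^ 2 := by rw [pow_two]; group
    rwa [e] at h6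
  obtain ⟨n, hn⟩ := hQ ⟨_, h5⟩
  have h7 : (x ^ 2) ^ 2 ^ n = 1 := congrArg Subtype.val hn
  rw [← pow_mul, ← pow_succ'] at h7
  exact orderOf_eq_one_iff.1 (Nat.Coprime.eq_one_of_dvd
    ((Nat.coprime_two_right.mpr hodd).pow_right _) (orderOf_dvd_of_pow_eq_one h7))

end Cfsg.Agent.QTNorm.SelfNorm
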