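import Cfsg.Agent.QTNorm.Base
set_option linter.all false

/-!
# Sylow 2-normalizers: tools for the sporadic rows (S1825, helper26)

* `norm_comm`     : `N_G(T)` centralises the only involution of `Z(T)`;
* `self_of_hom`   : `N_G(T) = T` from a homomorphism of `C_G(z)` with kernel a 2-group onto a group with
  self-normalising Sylow 2-subgroups;
* `NT.of_one`     : one Sylow subgroup suffices;
* `NT.of_elab`    : if the elementary abelian normal subgroups of `T` are `N_G(T)`-invariant.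
-/

set_option autoImplicit false

namespace Cfsg.Agent.QTNorm

open Cfsg Subgroup

universe u v

variable {G : Type u} [Group G] {L : Type v} [Group L]

/-- all Sylow 2-subgroups are self-normalising -/
def SelfN (L : Type v) [Group L] : Prop :=
  ∀ T : Sylow 2 L, normalizer ((T : Subgroup L) : Set L) ≤ (T : Subgroup L)

theorem SelfN.nt (h : SelfN G) : NT G := NT.of_self h

theorem SelfN.of_one [Finite G] (T₀ : Sylow 2 G)
    (h : normalizer ((T₀ : Subgroup G) : Set G) ≤ (T₀ : Subgroup G)) : SelfN G := self_all T₀ h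

theorem SelfN.congr [Finite G] (e : G ≃* L) (h : SelfN G) : SelfN L := by
  have : Finite L := Finite.of_equiv G e.toEquiv
  obtain ⟨T₀⟩ : Nonempty (Sylow 2 L) := inferInstance
  have hr : (T₀ : Subgroup L) ≤ e.toMonoidHom.range := by
    rw [MonoidHom.range_eq_top.2 e.surjective]; exact le_top
  refine SelfN.of_one T₀ ?_
  have h1 := h (T₀.comapOfInjective e.toMonoidHom e.injective hr)
  have h2 : (((T₀.comapOfInjective e.toMonoidHom e.injective hr : Sylow 2 G)) : Subgroup G) =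
      (T₀ : Subgroup L).map e.symm.toMonoidHom := comap_equiv_eq_map_symm e (T₀ : Subgroup L)
  rw [h2, ← normalizer_map e.symm] at h1
  have h3 := map_mono (f := e.toMonoidHom) h1
  rwa [map_map_symm, map_map_symm] at h3

/-- `N_G(T)` centralises the only involution of `Z(T)` -/
theorem norm_comm {T : Subgroup G} {z : G} (hz : z ∈ T) (h2 : z * z = 1) (h1 : z ≠ 1)
    (hc : ∀ t ∈ T, t * z = z * t)
    (hu : ∀ b ∈ T, b * b = 1 → b ≠ 1 → (∀ t ∈ T, t * b = b * t) → b = z)
    {x : G} (hx : x ∈ normalizer (T : Set G)) : x * z = z * x := by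
  have hxi := inv_mem hx
  have h3 : x * z * x⁻¹ = z := by
    apply hu
    · exact (mem_normalizer_iff.1 hx z).1 hz
    · calc x * z * x⁻¹ * (x * z * x⁻¹) = x * (z * z) * x⁻¹ := by group
        _ = 1 := by rw [h2]; group
    · intro h
      apply h1
      calc z = x⁻¹ * (x * z * x⁻¹) * x := by group
        _ = 1 := by rw [h]; group
    · intro t ht
      have ht' : x⁻¹ * t * x ∈ T := by
        have := (mem_normalizer_iff.1 hxi t).1 ht
        rwa [inv_inv] at this
      have h4 := hc _ ht'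
      calc t * (x * z * x⁻¹) = x * (x⁻¹ * t * x * z) * x⁻¹ := by group
        _ = x * (z * (x⁻¹ * t * x)) * x⁻¹ := by rw [h4]
        _ = x * z * x⁻¹ * t := by group
  calc x * z = x * z * x⁻¹ * x := by group
    _ = z * x := by rw [h3]

/-- `N_G(T) = T` from a homomorphism of a subgroup `C ≥ N_G(T)` with kernel a 2-group onto a group with
self-normalising Sylow 2-subgroups -/
theorem self_of_hom [Finite G] (T : Sylow 2 G) (C : Subgroup G)
    (hC : normalizer ((T : Subgroup G) : Set G) ≤ C) (π : C →* L) (hs : Function.Surjective π)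
    (hk : ∀ c, π c = 1 → ∃ k : ℕ, c ^ 2 ^ k = 1) (hL : SelfN L) :
    normalizer ((T : Subgroup G) : Set G) ≤ (T : Subgroup G) := by
  have : Fact (Nat.Prime 2) := ⟨Nat.prime_two⟩
  have hTC : (T : Subgroup G) ≤ C := le_normalizer.trans hC
  have : Finite L := Finite.of_surjective π hs
  set T' : Sylow 2 C := T.subtype hTC with hT'
  have hmem : ∀ c : C, c ∈ (T' : Subgroup C) ↔ (c : G) ∈ (T : Subgroup G) := by
    intro c
    rw [hT', Sylow.coe_subtype, mem_subgroupOf]
  have hker : π.ker ≤ (T' : Subgroup C) := by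
    have h1 : IsPGroup 2 π.ker := by
      intro ⟨c, hc⟩
      obtain ⟨k, hk'⟩ := hk c hc
      exact ⟨k, Subtype.ext hk'⟩
    have h2 : IsPGroup 2 ((T' : Subgroup C) ⊔ π.ker : Subgroup C) :=
      T'.isPGroup'.to_sup_of_normal_right h1
    exact le_sup_right.trans (T'.is_maximal' h2 le_sup_left).le
  intro x hx
  have hxC := hC hx
  have h1 : π ⟨x, hxC⟩ ∈ normalizer (((T'.mapSurjective hs : Sylow 2 L) : Subgroup L) : Set L) := by
    rw [Sylow.coe_mapSurjective, mem_normalizer_iff]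
    have key : ∀ y : G, y ∈ normalizer ((T : Subgroup G) : Set G) → ∀ hy : y ∈ C, ∀ l ∈ (T' : Subgroup C).map π,
        π ⟨y, hy⟩ * l * (π ⟨y, hy⟩)⁻¹ ∈ (T' : Subgroup C).map π := by
      rintro y hyN hy _ ⟨t, ht, rfl⟩
      refine ⟨⟨y, hy⟩ * t * ⟨y, hy⟩⁻¹, ?_, by simp⟩
      show (⟨y, hy⟩ * t * ⟨y, hy⟩⁻¹ : C) ∈ (T' : Subgroup C)
      rw [hmem]
      exact (mem_normalizer_iff.1 hyN t).1 ((hmem t).1 ht)
    intro l
    refine ⟨key x hx hxC l, fun h => ?_⟩
    have h2 := key x⁻¹ (inv_mem hx) (inv_mem hxC) _ h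
    have h3 : π ⟨x⁻¹, inv_mem hxC⟩ = (π ⟨x, hxC⟩)⁻¹ := by
      rw [← map_inv]; rfl
    rw [h3] at h2
    have h4 : (π ⟨x, hxC⟩)⁻¹ * (π ⟨x, hxC⟩ * l * (π ⟨x, hxC⟩)⁻¹) * (π ⟨x, hxC⟩)⁻¹⁻¹ = l := by group
    rwa [h4] at h2
  have h2 := hL _ h1
  rw [Sylow.coe_mapSurjective] at h2
  obtain ⟨t, ht, hte⟩ := h2
  have h3 : t⁻¹ * ⟨x, hxC⟩ ∈ π.ker := by
    rw [MonoidHom.mem_ker, map_mul, map_inv, hte, inv_mul_cancel]
  have h4 := (T' : Subgroup C).mul_mem ht (hker h3)
  rw [mul_inv_cancel_left] at h4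
  exact (hmem _).1 h4

/-- one Sylow subgroup suffices -/
theorem NT.of_one [Finite G] (T₀ : Sylow 2 G)
    (h : ∀ M : Subgroup G, IsMaximalTwoLocal M → (T₀ : Subgroup G) ≤ M →
      normalizer ((T₀ : Subgroup G) : Set G) ≤ M) : NT G := by
  have : Fact (Nat.Prime 2) := ⟨Nat.prime_two⟩
  intro T M hM hT
  obtain ⟨g, hg⟩ := MulAction.exists_smul_eq G T T₀
  have h1 : (T₀ : Subgroup G) = (T : Subgroup G).map (MulAut.conj g).toMonoidHom := by
    rw [← hg, Sylow.coe_subgroup_smul]; rfl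
  have h2 := h (M.map (MulAut.conj g).toMonoidHom) (isMaximalTwoLocal_map (MulAut.conj g) hM)
    (by rw [h1]; exact map_mono hT)
  rw [h1, ← normalizer_map (MulAut.conj g)] at h2
  exact (map_le_map_iff_of_injective (MulAut.conj g).injective).1 h2

/-- the maximal 2-local subgroups over `T` contain `N_G(T)` if the elementary abelian normal subgroups of `T` are
`N_G(T)`-invariant -/
theorem NT.of_elab [Finite G] (T₀ : Sylow 2 G)
    (h : ∀ V : Subgroup G, V ≤ (T₀ : Subgroup G) → (T₀ : Subgroup G) ≤ normalizer (V : Set G) → V ≠ ⊥ →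
      (∀ a ∈ V, ∀ b ∈ V, a * b = b * a) → (∀ a ∈ V, a * a = 1) →
      normalizer ((T₀ : Subgroup G) : Set G) ≤ normalizer (V : Set G)) : NT G := by
  have : Fact (Nat.Prime 2) := ⟨Nat.prime_two⟩
  refine NT.of_one T₀ fun M hM hT => ?_
  obtain ⟨⟨U, hU2, hU1, rfl⟩, hmax⟩ := hM
  -- `V = Ω₁(Z(U))`
  let V : Subgroup G :=
    { carrier := {a | a ∈ U ∧ (∀ b ∈ U, a * b = b * a) ∧ a * a = 1}
      one_mem' := ⟨U.one_mem, fun b _ => by simp, by simp⟩
      mul_mem' := by
        rintro a b ⟨ha, ha1, ha2⟩ ⟨hb, hb1, hb2⟩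
        refine ⟨U.mul_mem ha hb, fun c hc => ?_, ?_⟩
        · rw [mul_assoc, hb1 c hc, ← mul_assoc, ha1 c hc, mul_assoc]
        · calc a * b * (a * b) = a * (b * a) * b := by group
            _ = a * (a * b) * b := by rw [ha1 b hb]
            _ = (a * a) * (b * b) := by group
            _ = 1 := by rw [ha2, hb2, one_mul]
      inv_mem' := by
        rintro a ⟨ha, ha1, ha2⟩
        have : a⁻¹ = a := inv_eq_of_mul_eq_one_left ha2
        rw [this]
        exact ⟨ha, ha1, ha2⟩ }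
  have hVU : V ≤ U := fun a ha => ha.1
  have hVn : normalizer (U : Set G) ≤ normalizer (V : Set G) := by
    have key : ∀ x ∈ normalizer (U : Set G), ∀ a ∈ V, x * a * x⁻¹ ∈ V := by
      rintro x hx a ⟨ha, ha1, ha2⟩
      refine ⟨(mem_normalizer_iff.1 hx a).1 ha, fun b hb => ?_, ?_⟩
      · have hb' : x⁻¹ * b * x ∈ U := by
          have := (mem_normalizer_iff.1 (inv_mem hx) b).1 hb
          rwa [inv_inv] at this
        have h4 := ha1 _ hb'
        calc x * a * x⁻¹ * b = x * (a * (x⁻¹ * b * x)) * x⁻¹ := by group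
          _ = x * (x⁻¹ * b * x * a) * x⁻¹ := by rw [h4]
          _ = b * (x * a * x⁻¹) := by group
      · calc x * a * x⁻¹ * (x * a * x⁻¹) = x * (a * a) * x⁻¹ := by group
          _ = 1 := by rw [ha2]; group
    intro x hx
    rw [mem_normalizer_iff]
    intro a
    refine ⟨key x hx a, fun h1 => ?_⟩
    have h2 := key x⁻¹ (inv_mem hx) _ h1
    have h3 : x⁻¹ * (x * a * x⁻¹) * x⁻¹⁻¹ = a := by group
    rwa [h3] at h2
  have hV1 : V ≠ ⊥ := by
    have hn : Nontrivial U := (Subgroup.nontrivial_iff_ne_bot U).2 hU1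
    have hc := hU2.center_nontrivial
    have h2c : IsPGroup 2 (center U) := hU2.to_subgroup _
    obtain ⟨n, hn0, hn⟩ := h2c.nontrivial_iff_card.1 hc
    have h2 : 2 ∣ Nat.card (center U) := by
      rw [hn]; exact dvd_pow_self 2 hn0.ne'
    obtain ⟨a, ha⟩ := exists_prime_orderOf_dvd_card' 2 h2
    intro hb
    have h3 : ((a : U) : G) ∈ V := by
      refine ⟨(a : U).2, fun b hb => ?_, ?_⟩
      · have := mem_center_iff.1 a.2 ⟨b, hb⟩
        exact (congrArg Subtype.val this).symm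
      · have := pow_orderOf_eq_one a
        rw [ha, pow_two] at this
        have h4 := congrArg (fun t : center U => ((t : U) : G)) this
        exact h4
    rw [hb, mem_bot] at h3
    have h4 : a = 1 := Subtype.ext (Subtype.ext h3)
    rw [h4, orderOf_one] at ha
    omega
  have hV2 : IsPGroup 2 V := hU2.to_le hVU
  -- `U ≤ T₀`
  have hUT : U ≤ (T₀ : Subgroup G) := by
    have h1 : IsPGroup 2 ((T₀ : Subgroup G) ⊔ U : Subgroup G) :=
      T₀.isPGroup'.to_sup_of_normal_right' hU2 hT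
    exact le_sup_right.trans (T₀.is_maximal' h1 le_sup_left).le
  have h1 := hmax (normalizer (V : Set G)) ⟨V, hV2, hV1, rfl⟩ hVn
  have h2 := h V (hVU.trans hUT) (hT.trans hVn) hV1 (fun a ha b hb => ha.2.1 b (hVU hb)) (fun a ha => ha.2.2)
  rw [← h1]
  exact h2

end Cfsg.Agent.QTNorm
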