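import Cfsg.Agent.KFacts.HS.Sheet2_m3
import Cfsg.Agent.HN.FusK0
import Cfsg.Agent.QTNorm.SporBase
import Cfsg.Agent.Lib.FastDecM
import Cfsg.Agent.Prune
set_option linter.all false
open scoped Cfsg.Agent.FastGrp

/-!
# The row `HS` of S1825 (helper12)

The Sylow 2-subgroups of `HS` are self-normalising: `C(z)/R` is the symmetric group of degree 5, acting on the masks by
the 120 words of `S5W`; the 8 words of `W8` are the action of a Sylow 2-subgroup.
-/

set_option autoImplicit false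
set_option maxRecDepth 100000

namespace Cfsg.Agent.QTNorm.HSRow

open Cfsg Subgroup
open Cfsg.Agent.HN Cfsg.Agent.HN.Pres Cfsg.Agent.HN.HS100 Cfsg.Agent.HN.H0Basic Cfsg.Agent.HN.P1408
open Cfsg.Agent.HN.WMask Cfsg.Agent.HN.XMat Cfsg.Agent.KFacts.HS Cfsg.Agent.KFacts.HS.Cent

/-! ### the action of the Sylow subgroup on the masks -/

/-- the words of the action of the polycyclic generators -/
def aw (k : ℕ) : List ℕ :=
  match k with
  | 6 => [0, 1, 0, 0, 1, 0, 1, 1]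
  | 9 => [1, 0, 1, 0, 1]
  | 10 => [0, 1, 0, 0, 1, 0]
  | _ => []

/-- the masks and signs of the polycyclic generators -/
def am (k : ℕ) : ℕ × Bool :=
  match k with
  | 0 => (1, false)
  | 1 => (0, true)
  | 2 => (75, true)
  | 3 => (12, true)
  | 4 => (43, false)
  | 5 => (90, false)
  | 6 => (12, false)
  | 7 => (3, false)
  | 8 => (9, false)
  | 9 => (32, true)
  | _ => (26, false)

/-- the eight words -/
def W8 : List (List ℕ) := [[], [1, 0, 1, 0, 1], [0, 1, 0, 0, 1, 0], [0, 1, 0, 0, 1, 0, 1, 1], [1, 1],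
  [1, 0, 1, 0, 1, 1, 1], [0, 0, 1, 0, 1, 1, 1, 0, 1], [1, 1, 1, 0, 1, 0, 1]]

theorem chk_s : ∀ k < 11, eqw (Syl.sw k) (elw (am k).1 (aw k) (am k).2) = true ∧ aw k ∈ W8 := by decide +kernel

theorem W8_sub : ∀ w ∈ W8, w ∈ S5W := by decide +kernel

theorem chk_mul : ∀ w1 ∈ W8, ∀ w2 ∈ W8, ∃ w3 ∈ W8, ∀ i < 7, fw w3 (2 ^ i) = fw w2 (fw w1 (2 ^ i)) := by
  (first | (set_option backward.isDefEq.respectTransparency.types false in set_option synthInstance.maxSize 99999 in (exact _root_.Cfsg.Agent.FastDec.of (by decide +kernel))) | decide +kernel)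

theorem chk_inv : ∀ w1 ∈ W8, ∃ w2 ∈ W8, ∀ i < 7, fw w1 (fw w2 (2 ^ i)) = 2 ^ i := by decide +kernel

/-- **the normalizer of the Sylow subgroup of the symmetric group of degree 5** -/
theorem chk_norm : ∀ w ∈ S5W, w ∈ W8 ∨
    (∀ w2 ∈ W8, ∃ i < 7, fw [1, 0, 1, 0, 1] (fw w (2 ^ i)) ≠ fw w (fw w2 (2 ^ i))) ∨
    (∀ w2 ∈ W8, ∃ i < 7, fw [0, 1, 0, 0, 1, 0] (fw w (2 ^ i)) ≠ fw w (fw w2 (2 ^ i))) := by
  (first | (set_option backward.isDefEq.respectTransparency.types false in set_option synthInstance.maxSize 99999 in (exact _root_.Cfsg.Agent.FastDec.of (by decide +kernel))) | decide +kernel)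

theorem act_s {k : ℕ} (hk : k < 11) : Act (Syl.s k) (fw (aw k)) := by
  obtain ⟨h1, h2⟩ := chk_s k hk
  have h3 : Syl.s k = el (am k).1 (aw k) (am k).2 := by
    rw [← hw_elw]
    exact hw_eq h1
  rw [h3]
  exact Act.el _ (W8_sub _ h2) _

theorem eq_of_act {g : H0} {w w3 : List ℕ} {F : ℕ → ℕ} (hw1 : w ∈ S5W) (hw3 : w3 ∈ W8) (h1 : Act g (fw w))
    (h2 : Act g F) (h3 : ∀ i < 7, fw w3 (2 ^ i) = F (2 ^ i)) : w = w3 :=
  key_inj hw1 (W8_sub _ hw3) (key_congr fun i hi => (h1.uniq h2 (two_pow_lt hi)).trans (h3 i hi).symm)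

/-- the elements acting as the words of `W8` -/
def A8 : Subgroup H0 where
  carrier := {g | ∃ w ∈ W8, Act g (fw w)}
  one_mem' := ⟨[], by decide, Act.one⟩
  mul_mem' := by
    rintro g h ⟨w1, hw1, hg⟩ ⟨w2, hw2, hh⟩
    obtain ⟨w, hw0, hwa⟩ := Act.exists_of_comm (hg.mul hh).cb
    obtain ⟨w3, hw3, h3⟩ := chk_mul w1 hw1 w2 hw2
    have := eq_of_act hw0 hw3 hwa (hg.mul hh) h3
    subst this
    exact ⟨w, hw3, hwa⟩
  inv_mem' := by
    rintro g ⟨w1, hw1, hg⟩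
    have hb : b * g⁻¹ = g⁻¹ * b := by
      rw [eq_inv_mul_iff_mul_eq, ← mul_assoc, ← hg.cb, mul_assoc, mul_inv_cancel, mul_one]
    obtain ⟨w, hw0, hwa⟩ := Act.exists_of_comm hb
    obtain ⟨w2, hw2, h2⟩ := chk_inv w1 hw1
    have h1 := hg.mul hwa
    rw [mul_inv_cancel] at h1
    have h3 : ∀ m < 128, fw w (fw w1 m) = m := fun m hm => h1.uniq Act.one hm
    have hlt : ∀ i < 7, fw w2 (2 ^ i) < 128 := fun i hi => fw_lt (S5_lt (W8_sub _ hw2)) (two_pow_lt hi)
    have h4 : ∀ i < 7, fw w2 (2 ^ i) = fw w (2 ^ i) := by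
      intro i hi
      have := h3 _ (hlt i hi)
      rw [h2 i hi] at this
      exact this.symm
    have := eq_of_act hw0 hw2 hwa hwa h4
    subst this
    exact ⟨w, hw2, hwa⟩

theorem S_le_A8 : Syl.S ≤ A8 := by
  show Subgroup.closure _ ≤ _
  rw [Subgroup.closure_le]
  rintro _ ⟨k, hk, rfl⟩
  exact ⟨aw k, (chk_s k hk).2, act_s hk⟩

theorem s89_mem : Syl.s 8 * Syl.s 9 ∈ Syl.S := mul_mem (Syl.s_mem_S (by norm_num)) (Syl.s_mem_S (by norm_num))
theorem s810_mem : Syl.s 8 * Syl.s 10 ∈ Syl.S := mul_mem (Syl.s_mem_S (by norm_num)) (Syl.s_mem_S (by norm_num))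
theorem s6_mem : Syl.s 6 ∈ Syl.S := Syl.s_mem_S (by norm_num)
theorem s6_K : Syl.s 6 ∈ K := mem_K_of_par rfl rfl

theorem act_89 : Act (Syl.s 8 * Syl.s 9) (fw [1, 0, 1, 0, 1]) := (act_s (k := 8) (by norm_num)).mul (act_s (k := 9) (by norm_num))
theorem act_810 : Act (Syl.s 8 * Syl.s 10) (fw [0, 1, 0, 0, 1, 0]) :=
  (act_s (k := 8) (by norm_num)).mul (act_s (k := 10) (by norm_num))
theorem act_6 : Act (Syl.s 6) (fw [0, 1, 0, 0, 1, 0, 1, 1]) := act_s (k := 6) (by norm_num)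

/-- representatives in the Sylow subgroup of `K` -/
theorem reps {w : List ℕ} (hw : w ∈ W8) : ∃ g ∈ Syl.S, g ∈ K ∧ ∃ f, Act g f ∧ ∀ i < 7, f (fw w (2 ^ i)) = 2 ^ i := by
  have k89 : Syl.s 8 * Syl.s 9 ∈ K := FusK0.mem89
  have k810 : Syl.s 8 * Syl.s 10 ∈ K := FusK0.mem810
  simp only [W8, List.mem_cons, List.not_mem_nil, or_false] at hw
  rcases hw with rfl | rfl | rfl | rfl | rfl | rfl | rfl | rfl
  · exact ⟨1, one_mem _, one_mem _, _, Act.one, by decide +kernel⟩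
  · exact ⟨_, s89_mem, k89, _, act_89, by decide +kernel⟩
  · exact ⟨_, s810_mem, k810, _, act_810, by decide +kernel⟩
  · exact ⟨_, s6_mem, s6_K, _, act_6, by decide +kernel⟩
  · exact ⟨_, mul_mem s6_mem s810_mem, mul_mem s6_K k810, _, act_6.mul act_810, by decide +kernel⟩
  · exact ⟨_, mul_mem s89_mem s810_mem, mul_mem k89 k810, _, act_89.mul act_810, by decide +kernel⟩
  · exact ⟨_, mul_mem s6_mem s89_mem, mul_mem s6_K k89, _, act_6.mul act_89, by decide +kernel⟩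
  · exact ⟨_, mul_mem s810_mem s89_mem, mul_mem k810 k89, _, act_810.mul act_89, by decide +kernel⟩

/-- an element of `C(b)` normalising `S ∩ K` acts as a word of `W8` -/
theorem mem_W8 {k : H0} {w : List ℕ} (hw : w ∈ S5W) (hk : Act k (fw w))
    (hn : ∀ s ∈ Syl.S, s ∈ K → k * s * k⁻¹ ∈ Syl.S) : w ∈ W8 := by
  have key : ∀ (s : H0) (u : List ℕ), s ∈ Syl.S → s ∈ K → Act s (fw u) →
      ∃ w2 ∈ W8, ∀ i < 7, fw u (fw w (2 ^ i)) = fw w (fw w2 (2 ^ i)) := by
    intro s u hs hsK hu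
    obtain ⟨w2, hw2, h2⟩ := S_le_A8 (hn s hs hsK)
    refine ⟨w2, hw2, fun i hi => ?_⟩
    have h3 := h2.mul hk
    rw [inv_mul_cancel_right] at h3
    exact (hk.mul hu).uniq h3 (two_pow_lt hi)
  rcases chk_norm w hw with h | h | h
  · exact h
  · exfalso
    obtain ⟨w2, hw2, h2⟩ := key _ _ s89_mem FusK0.mem89 act_89
    obtain ⟨i, hi, h3⟩ := h w2 hw2
    exact h3 (h2 i hi)
  · exfalso
    obtain ⟨w2, hw2, h2⟩ := key _ _ s810_mem FusK0.mem810 act_810
    obtain ⟨i, hi, h3⟩ := h w2 hw2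
    exact h3 (h2 i hi)

section

variable {L : Type*} [Group L] (D : KFacts.HS.Mod L)

/-- the Sylow subgroup -/
noncomputable def syT : Sylow 2 L := FusK0.syl0.mapSurjective D.surj

theorem mem_syT {k : K} : D.π k ∈ syT D ↔ (k : H0) ∈ Syl.S := by
  constructor
  · rintro ⟨s, hs, h⟩
    rcases (D.eq_iff _ _).1 h with h1 | h1
    · rw [← h1]; exact FusK0.mem_S0.1 hs
    · have h2 : (k : H0) = s * τ := by rw [h1, mul_assoc, τ_mul_τ, mul_one]
      rw [h2]
      exact mul_mem (FusK0.mem_S0.1 hs) Syl.τ_mem_S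
  · intro h
    exact ⟨k, FusK0.mem_S0.2 h, rfl⟩

theorem syT_comm {x : L} (hx : x ∈ syT D) : x * D.z = D.z * x := by
  obtain ⟨⟨k, hk⟩, rfl⟩ := D.surj x
  have h := (mem_syT D).1 hx
  rw [D.comm_z hk, mem_Pt]
  refine ⟨?_, hk⟩
  rw [b_eq, ← mul_assoc, Syl.a_comm h, mul_assoc, τ_comm, ← mul_assoc]

theorem norm_syT : normalizer ((syT D : Subgroup L) : Set L) ≤ (syT D : Subgroup L) := by
  have hfin : Finite L := D.finite
  have hR := D.R_le_sylow (syT D) fun x hx => syT_comm D hx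
  have hcT : ∀ y ∈ syT D, (∀ t ∈ syT D, t * y = y * t) → y * y = 1 → y ≠ 1 → y = D.z := by
    intro y hy hc hyy hy1
    have hu : ∀ x, x * x = 1 → x ≠ D.u ∧ x ≠ D.u⁻¹ := by
      intro x hx
      constructor
      · rintro rfl
        exact D.z1 (by rw [← D.uu, hx])
      · rintro rfl
        apply D.z1
        rw [← D.uu, ← inv_inj, mul_inv_rev, hx, inv_one]
    rcases D.cR' y (syT_comm D hy) (fun r hr => (hc r (hR hr)).symm) with h | h | h | h
    · exact absurd h hy1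
    · exact h
    · exact absurd h (hu y hyy).1
    · exact absurd h (hu y hyy).2
  intro x hx
  have hxz : x * D.z = D.z * x :=
    norm_comm (hR D.zR) D.zz D.z1 (fun t ht => syT_comm D ht) (fun y hy hyy hy1 hc => hcT y hy hc hyy hy1) hx
  obtain ⟨⟨k, hk⟩, rfl⟩ := D.surj x
  have hPt := mem_Pt.1 ((D.comm_z hk).1 hxz)
  obtain ⟨w, hw, hact⟩ := Act.exists_of_comm hPt.1.symm
  have hw8 : w ∈ W8 := by
    refine mem_W8 hw hact fun s hs hsK => ?_
    have h1 := (mem_normalizer_iff.1 hx (D.π ⟨s, hsK⟩)).1 ((mem_syT D).2 hs)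
    rw [D.π_conj] at h1
    exact (mem_syT D).1 h1
  obtain ⟨g, hgS, hgK, f, hg, hf⟩ := reps hw8
  have h1 := hact.mul hg
  obtain ⟨m, hm, e, he⟩ := h1.mem_W hf
  have hkg : k * g ∈ K := K.mul_mem hk hgK
  have h2 : k * g ∈ Rt := by
    rw [mem_Rt]
    refine ⟨m, hm, ?_, e, he⟩
    rw [← R_mem_K_iff hm, ← K.mul_mem_cancel_right (sg_mem_K e), ← he]
    exact hkg
  have h3 : D.π ⟨k * g, hkg⟩ ∈ syT D := hR ((D.π_mem_im τ_mem_Rt hkg).2 h2)
  have h4 : k * g ∈ Syl.S := (mem_syT D).1 h3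
  exact (mem_syT D).2 ((mul_mem_cancel_right hgS).1 h4)

include D in
theorem selfN : SelfN L := by
  have hfin : Finite L := D.finite
  exact SelfN.of_one (syT D) (norm_syT D)

end

/-- **The Sylow 2-subgroups of `HS` are self-normalising.** -/
theorem selfN_hs {G : Type*} [Group G] (h : Spor.IsoHS G) : SelfN G := by
  obtain ⟨D⟩ := exists_mod h
  exact selfN D

/-- **Row `HS` of S1825.** -/
theorem nt_hs {G : Type*} [Group G] (h : Spor.IsoHS G) : NT G := (selfN_hs h).nt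

end Cfsg.Agent.QTNorm.HSRow

private theorem dce_052a8e114c0e : _root_.True := by
  try have : _root_.True := by simp only [_root_.Cfsg.Agent.QTNorm.HSRow.W8.eq_1]
  exact _root_.True.intro
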