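import Cfsg.Agent.KFacts.AutLarge
import Cfsg.Agent.Schreier.Tools2
import Cfsg.Agent.Schreier.SylMTwentyTwo
import Cfsg.Agent.SporadicA.MathieuRecog
import Cfsg.Prelude.Def_Classification2
import Cfsg.Agent.QTNorm.SporBase
set_option linter.all false

-- merged: Cfsg.Agent.Omega.Kond.Base
section

/-!
# Odd automorphisms on Sylow 2-subgroups: the K-fact (KOND')

* `Kond K`: an automorphism `t` of odd order of `K`, which normalises `S ∈ Syl₂(K)` such that `[S, t]` is abelian, is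
  trivial on `S`, or `S` is elementary abelian.
* `Kond.subgroup`: the form for a group of automorphisms of odd order.
* `kond_of_sylow`, `Kond.congr`: one Sylow 2-subgroup, transport.
* `ex` (EX): `Q ⊴ S` extraspecial, `t`-invariant, `C_S(Q) ≤ Q`, `[Q, t]` abelian ⟹ `t = 1` on `S`.
* `kond_of_large`: groups with a large extraspecial 2-subgroup.
* `kond_of_inner`: all automorphisms of odd order are inner, odd elements of `N_K(S)` centralise `S`.
-/

set_option autoImplicit false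
set_option linter.style.haveILetI false
set_option linter.dupNamespace false

namespace Cfsg.Agent.Omega.Kond.Base

open Subgroup Cfsg.Agent.Co2Type.Quad Cfsg.Agent.KFacts
open scoped Pointwise commutatorElement

universe u v

/-- (KOND') for one Sylow 2-subgroup -/
def KondAt {K : Type u} [Group K] (S : Subgroup K) : Prop :=
  ∀ t : MulAut K, Odd (orderOf t) → (∀ s ∈ S, t s ∈ S) →
    (∀ s ∈ S, ∀ r ∈ S, (s⁻¹ * t s) * (r⁻¹ * t r) = (r⁻¹ * t r) * (s⁻¹ * t s)) →
    (∀ s ∈ S, t s = s) ∨ (∀ s ∈ S, s * s = 1)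

/-- (KOND') -/
def Kond (K : Type u) [Group K] : Prop := ∀ S : Sylow 2 K, KondAt (S : Subgroup K)

variable {K : Type u} [Group K]

/-! ### Transport, one Sylow subgroup -/

theorem KondAt.congr {K' : Type v} [Group K'] (e : K ≃* K') {S : Subgroup K} (h : KondAt S) :
    KondAt (S.map e.toMonoidHom) := by
  intro t ht hS hc
  set t' : MulAut K := (MulAut.congr e).symm t with ht'
  have hval : ∀ x, e (t' x) = t (e x) := fun x => by
    rw [ht']; simp [MulAut.congr]
  have hodd : Odd (orderOf t') := by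
    have : orderOf t' = orderOf t := orderOf_injective (MulAut.congr e).symm.toMonoidHom (MulAut.congr e).symm.injective t
    rw [this]; exact ht
  have hmem : ∀ {x}, e x ∈ S.map e.toMonoidHom ↔ x ∈ S := by
    intro x
    constructor
    · rintro ⟨y, hy, hyx⟩
      rw [← e.injective hyx]; exact hy
    · exact fun hx => ⟨x, hx, rfl⟩
  have hS' : ∀ s ∈ S, t' s ∈ S := fun s hs => by
    rw [← hmem, hval]; exact hS _ (hmem.2 hs)
  have hc' : ∀ s ∈ S, ∀ r ∈ S, (s⁻¹ * t' s) * (r⁻¹ * t' r) = (r⁻¹ * t' r) * (s⁻¹ * t' s) := by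
    intro s hs r hr
    apply e.injective
    simp only [map_mul, map_inv, hval]
    exact hc _ (hmem.2 hs) _ (hmem.2 hr)
  rcases h t' hodd hS' hc' with h1 | h1
  · left
    rintro _ ⟨s, hs, rfl⟩
    show t (e s) = e s
    rw [← hval, h1 s hs]
  · right
    rintro _ ⟨s, hs, rfl⟩
    show e s * e s = 1
    rw [← map_mul, h1 s hs, map_one]

theorem kond_of_sylow [Finite K] (S₀ : Sylow 2 K) (h : KondAt (S₀ : Subgroup K)) : Kond K := by
  have hfact : Fact (Nat.Prime 2) := ⟨Nat.prime_two⟩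
  intro S
  obtain ⟨g, rfl⟩ := MulAction.exists_smul_eq K S₀ S
  have h1 := h.congr (MulAut.conj g)
  rwa [Sylow.coe_subgroup_smul]

theorem Kond.congr [Finite K] {K' : Type v} [Group K'] (e : K ≃* K') (h : Kond K) : Kond K' := by
  have hfact : Fact (Nat.Prime 2) := ⟨Nat.prime_two⟩
  haveI : Finite K' := Finite.of_equiv K e.toEquiv
  obtain ⟨S⟩ : Nonempty (Sylow 2 K) := inferInstance
  refine kond_of_sylow (S.mapSurjective (f := e.toMonoidHom) e.surjective) ?_
  exact (h S).congr e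

/-- the form for a group of automorphisms of odd order -/
theorem Kond.subgroup [Finite K] (h : Kond K) (S : Sylow 2 K) (T : Subgroup (MulAut K)) (hT : Odd (Nat.card T))
    (hS : ∀ t ∈ T, ∀ s ∈ (S : Subgroup K), t s ∈ (S : Subgroup K))
    (hc : ∀ t ∈ T, ∀ t' ∈ T, ∀ s ∈ (S : Subgroup K), ∀ r ∈ (S : Subgroup K),
      (s⁻¹ * t s) * (r⁻¹ * t' r) = (r⁻¹ * t' r) * (s⁻¹ * t s)) :
    (∀ t ∈ T, ∀ s ∈ (S : Subgroup K), t s = s) ∨ (∀ s ∈ (S : Subgroup K), s * s = 1) := by
  by_cases h2 : ∀ s ∈ (S : Subgroup K), s * s = 1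
  · exact Or.inr h2
  · left
    intro t ht
    have hodd : Odd (orderOf t) := by
      refine hT.of_dvd_nat ?_
      rw [← Nat.card_zpowers]
      exact Subgroup.card_dvd_of_le ((zpowers_le).2 ht)
    exact (h S t hodd (hS t ht) (hc t ht t ht)).resolve_right h2

/-! ### (EX) -/

section EX

variable {S Q : Subgroup K} {z : K} {t : MulAut K}

theorem pow_eq_of_sq {x : K} (n : ℕ) (h : (t * t) x = x) : (t ^ (2 * n)) x = x := by
  induction n with
  | zero => rfl
  | succ n ih =>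
    have e : 2 * (n + 1) = 2 * n + 2 := by ring
    rw [e, pow_add, MulAut.mul_apply, pow_two, h, ih]

theorem eq_of_sq (hodd : Odd (orderOf t)) {x : K} (h : (t * t) x = x) : t x = x := by
  obtain ⟨m, hm⟩ := hodd
  have h1 : t ^ (2 * m + 1) = 1 := by rw [← hm]; exact pow_orderOf_eq_one t
  have h2 : (t ^ (2 * m)) (t x) = x := by
    have h3 := congrArg (fun f : MulAut K => f x) h1
    simp only [pow_succ, MulAut.mul_apply, MulAut.one_apply] at h3
    exact h3
  have h4 : (t * t) (t x) = t x := by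
    rw [MulAut.mul_apply]
    exact congrArg t h
  rwa [pow_eq_of_sq m h4] at h2

/-- the elements moved by an element of order two of the centre -/
theorem eq_of_mul_z (hodd : Odd (orderOf t)) (hz : t z = z) (hz2 : z * z = 1) {x : K}
    (h : t x = x ∨ t x = x * z) : t x = x := by
  rcases h with h | h
  · exact h
  · apply eq_of_sq hodd
    rw [MulAut.mul_apply, h, map_mul, h, hz, mul_assoc, hz2, mul_one]

/-- (EX) on `Q` -/
theorem ex_Q (hodd : Odd (orderOf t)) (hz : t z = z) (hz2 : z * z = 1)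
    (hQ : ∀ x ∈ Q, t x ∈ Q) (hzc : ∀ x ∈ Q, x * z = z * x)
    (comm : ∀ x ∈ Q, ∀ y ∈ Q, x * y = y * x ∨ x * y = y * x * z)
    (cent : ∀ x ∈ Q, (∀ y ∈ Q, x * y = y * x) → x = 1 ∨ x = z)
    (hab : ∀ x ∈ Q, ∀ y ∈ Q, (x⁻¹ * t x) * (y⁻¹ * t y) = (y⁻¹ * t y) * (x⁻¹ * t x)) :
    ∀ x ∈ Q, t x = x := by
  -- the commutator form
  have c1 : ∀ x ∈ Q, ∀ y ∈ Q, ⁅x, y⁆ = 1 ∨ ⁅x, y⁆ = z := by
    intro x hx y hy
    have hyx : ∀ w ∈ Q, w * z = z * w := hzc
    rcases comm x hx y hy with h | h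
    · left; rw [commutatorElement_def, h]; group
    · right
      rw [commutatorElement_def, h, mul_assoc y x z, hyx x hx, ← mul_assoc y z x, hyx y hy]
      group
  have ccen : ∀ x ∈ Q, ∀ y ∈ Q, ∀ w ∈ Q, w * ⁅x, y⁆ = ⁅x, y⁆ * w := by
    intro x hx y hy w hw
    rcases c1 x hx y hy with h | h <;> rw [h]
    · rw [mul_one, one_mul]
    · exact hzc w hw
  have csq : ∀ x ∈ Q, ∀ y ∈ Q, ⁅x, y⁆ * ⁅x, y⁆ = 1 := by
    intro x hx y hy
    rcases c1 x hx y hy with h | h <;> rw [h]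
    · rw [one_mul]
    · exact hz2
  have cl : ∀ x ∈ Q, ∀ y ∈ Q, ∀ w ∈ Q, ⁅x * y, w⁆ = ⁅x, w⁆ * ⁅y, w⁆ := by
    intro x hx y hy w hw
    have h1 : ⁅x * y, w⁆ = (x * ⁅y, w⁆) * x⁻¹ * ⁅x, w⁆ := by
      simp only [commutatorElement_def]; group
    rw [h1, ccen y hy w hw x hx, mul_inv_cancel_right, ccen y hy w hw _ (by
      rw [commutatorElement_def]
      exact Q.mul_mem (Q.mul_mem (Q.mul_mem hx hw) (Q.inv_mem hx)) (Q.inv_mem hw))]
  have cr : ∀ x ∈ Q, ∀ y ∈ Q, ∀ w ∈ Q, ⁅x, y * w⁆ = ⁅x, y⁆ * ⁅x, w⁆ := by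
    intro x hx y hy w hw
    have h1 : ⁅x, y * w⁆ = ⁅x, y⁆ * ((y * ⁅x, w⁆) * y⁻¹) := by
      simp only [commutatorElement_def]; group
    rw [h1, ccen x hx w hw y hy, mul_inv_cancel_right]
  have ci : ∀ x ∈ Q, ∀ w ∈ Q, ⁅x⁻¹, w⁆ = ⁅x, w⁆ := by
    intro x hx w hw
    have h1 := cl x hx x⁻¹ (Q.inv_mem hx) w hw
    rw [mul_inv_cancel, commutatorElement_one_left] at h1
    have h2 := csq x hx w hw
    rw [← h2] at h1
    exact (mul_left_cancel h1).symm
  have ci' : ∀ x ∈ Q, ∀ w ∈ Q, ⁅x, w⁻¹⁆ = ⁅x, w⁆ := by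
    intro x hx w hw
    have h1 := cr x hx w hw w⁻¹ (Q.inv_mem hw)
    rw [mul_inv_cancel, commutatorElement_one_right] at h1
    have h2 := csq x hx w hw
    rw [← h2] at h1
    exact (mul_left_cancel h1).symm
  have ct : ∀ x ∈ Q, ∀ y ∈ Q, ⁅t x, t y⁆ = ⁅x, y⁆ := by
    intro x hx y hy
    rw [← map_commutatorElement]
    rcases c1 x hx y hy with h | h <;> rw [h]
    · rw [map_one]
    · exact hz
  have key : ∀ x ∈ Q, ∀ y ∈ Q, ⁅x, t y⁆ = ⁅t x, y⁆ := by
    intro x hx y hy
    have hx' := hQ x hx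
    have hy' := hQ y hy
    have h1 : ⁅x⁻¹ * t x, y⁻¹ * t y⁆ = 1 := by
      rw [commutatorElement_eq_one_iff_mul_comm]
      exact hab x hx y hy
    rw [cl _ (Q.inv_mem hx) _ hx' _ (Q.mul_mem (Q.inv_mem hy) hy'), cr _ (Q.inv_mem hx) _ (Q.inv_mem hy) _ hy',
      cr _ hx' _ (Q.inv_mem hy) _ hy', ci x hx _ (Q.inv_mem hy), ci' x hx y hy, ci x hx _ hy', ci' _ hx' y hy,
      ct x hx y hy] at h1
    -- `f x y * f x (t y) * (f (t x) y * f x y) = 1`
    have e := ccen x hx y hy
    have h2 : ⁅x, t y⁆ * ⁅t x, y⁆ = 1 := by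
      have h3 : ⁅x, y⁆ * ⁅x, t y⁆ * (⁅t x, y⁆ * ⁅x, y⁆) = ⁅x, t y⁆ * ⁅t x, y⁆ * (⁅x, y⁆ * ⁅x, y⁆) := by
        have m1 : ⁅x, t y⁆ ∈ Q := by
          rw [commutatorElement_def]
          exact Q.mul_mem (Q.mul_mem (Q.mul_mem hx hy') (Q.inv_mem hx)) (Q.inv_mem hy')
        rw [← e _ m1]
        simp only [mul_assoc]
        rw [← mul_assoc ⁅x, y⁆ ⁅t x, y⁆, ← e _ (by
          rw [commutatorElement_def]
          exact Q.mul_mem (Q.mul_mem (Q.mul_mem hx' hy) (Q.inv_mem hx')) (Q.inv_mem hy))]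
        simp only [mul_assoc]
      rw [h3, csq x hx y hy, mul_one] at h1
      exact h1
    have h4 := csq (t x) hx' y hy
    rw [← h4] at h2
    exact mul_right_cancel h2
  -- `t y` and `t⁻¹ y`
  have fin : ∀ y ∈ Q, (t * t) y = y := by
    intro y hy
    have hy' := hQ y hy
    have hy2 := hQ _ hy'
    have h1 : ∀ x ∈ Q, ⁅x, t (t y) * y⁻¹⁆ = 1 := by
      intro x hx
      rw [cr x hx _ hy2 _ (Q.inv_mem hy), ci' x hx y hy, key x hx (t y) hy', ct x hx y hy, csq x hx y hy]
    have h2 : t (t y) * y⁻¹ = 1 ∨ t (t y) * y⁻¹ = z := by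
      refine cent _ (Q.mul_mem hy2 (Q.inv_mem hy)) fun x hx => ?_
      exact ((commutatorElement_eq_one_iff_mul_comm).1 (h1 x hx)).symm
    have hodd2 : Odd (orderOf (t * t)) := by
      rw [← pow_two]
      exact hodd.of_dvd_nat (orderOf_pow_dvd 2)
    have hz' : (t * t) z = z := by rw [MulAut.mul_apply, hz, hz]
    refine eq_of_mul_z hodd2 hz' hz2 ?_
    rcases h2 with h2 | h2
    · left
      exact mul_inv_eq_one.1 h2
    · right
      rw [MulAut.mul_apply]
      rw [mul_inv_eq_iff_eq_mul] at h2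
      rw [h2, hzc y hy]
  exact fun y hy => eq_of_sq hodd (fin y hy)

/-- (EX) on `S` -/
theorem ex (hodd : Odd (orderOf t)) (hz : t z = z) (hz2 : z * z = 1) (hSQ : ∀ s ∈ S, ∀ x ∈ Q, s * x * s⁻¹ ∈ Q)
    (hS : ∀ s ∈ S, t s ∈ S) (hself : ∀ s ∈ S, (∀ x ∈ Q, s * x = x * s) → s = 1 ∨ s = z)
    (h1 : ∀ x ∈ Q, t x = x) : ∀ s ∈ S, t s = s := by
  intro s hs
  have h2 : ∀ x ∈ Q, (s⁻¹ * t s) * x = x * (s⁻¹ * t s) := by
    intro x hx
    have h3 : t (s * x * s⁻¹) = s * x * s⁻¹ := h1 _ (hSQ s hs x hx)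
    rw [map_mul, map_mul, map_inv, h1 x hx] at h3
    calc (s⁻¹ * t s) * x = s⁻¹ * (t s * x * (t s)⁻¹) * t s := by group
      _ = s⁻¹ * (s * x * s⁻¹) * t s := by rw [h3]
      _ = x * (s⁻¹ * t s) := by group
  apply eq_of_mul_z hodd hz hz2
  rcases hself _ (S.mul_mem (S.inv_mem hs) (hS s hs)) h2 with h3 | h3
  · left
    exact (inv_mul_eq_one.1 h3).symm
  · right
    rw [inv_mul_eq_iff_eq_mul] at h3
    exact h3

end EX

/-! ### Groups with a large extraspecial subgroup -/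

section LargeCase

variable {Q : Subgroup K} {z : K}

/-- the group of a Sylow subgroup in `C(z)` -/
theorem kondAt_of_large (h : Large Q z) {S : Sylow 2 K} (hS : (S : Subgroup K) ≤ centralizer ({z} : Set K))
    (hinv : ∀ α : MulAut K, Odd (orderOf α) → α z = z → ∀ x ∈ Q, α x ∈ Q) : KondAt (S : Subgroup K) := by
  intro t ht htS hc
  left
  have hfact : Fact (Nat.Prime 2) := ⟨Nat.prime_two⟩
  have hQS := AutLarge.le_sylow h S hS
  have hcen : ∀ x ∈ (S : Subgroup K), x * z = z * x := fun x hx => Subgroup.mem_centralizer_singleton_iff.1 (hS hx)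
  -- `t` fixes `z`
  have hz : t z = z := by
    have hmS : ∀ x ∈ (S : Subgroup K), ∃ y ∈ (S : Subgroup K), t y = x := by
      intro x hx
      obtain ⟨n, hn⟩ : ∃ n : ℕ, t ^ (n + 1) = 1 := by
        obtain ⟨m, hm⟩ := ht
        exact ⟨2 * m, by rw [← hm]; exact pow_orderOf_eq_one t⟩
      have hp : ∀ n : ℕ, (t ^ n) x ∈ (S : Subgroup K) := by
        intro n
        induction n with
        | zero => exact hx
        | succ n ih =>
          rw [pow_succ', MulAut.mul_apply]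
          exact htS _ ih
      refine ⟨(t ^ n) x, hp n, ?_⟩
      rw [← MulAut.mul_apply, ← pow_succ', hn, MulAut.one_apply]
    have h1 : ∀ x ∈ (S : Subgroup K), t z * x = x * t z := by
      intro x hx
      obtain ⟨y, hy, rfl⟩ := hmS x hx
      rw [← map_mul, ← map_mul, hcen y hy]
    rcases LargeE.cent_eq h (h1 z (hQS h.z_mem)) (fun x hx => h1 x (hQS hx)) with h2 | h2
    · exact absurd ((map_eq_one_iff t t.injective).1 h2) h.z_ne
    · exact h2
  have hQ := hinv t ht hz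
  have h1 := ex_Q ht hz h.z_sq hQ h.comm_z h.comm h.cent (fun x hx y hy => hc x (hQS hx) y (hQS hy))
  exact ex ht hz h.z_sq (fun s hs => h.conj_mem s (hcen s hs)) htS
    (fun s hs hs' => LargeE.cent_eq h (hcen s hs) hs') h1

/-- groups with a large extraspecial subgroup invariant under the automorphisms fixing `z` -/
theorem kond_of_large [Finite K] (h : Large Q z) (hidx : Odd (centralizer ({z} : Set K)).index)
    (hinv : ∀ α : MulAut K, Odd (orderOf α) → α z = z → ∀ x ∈ Q, α x ∈ Q) : Kond K := by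
  obtain ⟨S, hS⟩ := AutLarge.exists_sylow hidx
  exact kond_of_sylow S (kondAt_of_large h hS hinv)

/-- `C(z)` irreducible on `Q / ⟨z⟩` -/
theorem kond_of_irr [Finite K] (h : Large Q z) (hidx : Odd (centralizer ({z} : Set K)).index) (hirr : AutLarge.Irr Q z)
    (hne : ∃ x ∈ Q, x ≠ 1 ∧ x ≠ z) : Kond K :=
  kond_of_large h hidx fun _ _ hα _ hx => AutLarge.map_mem h hirr hne hα hx

/-- all automorphisms of odd order are inner -/
theorem kond_of_large_inner [Finite K] (h : Large Q z) (hidx : Odd (centralizer ({z} : Set K)).index)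
    (hout : ∀ α : MulAut K, Odd (orderOf α) → ∃ g : K, α = MulAut.conj g) : Kond K :=
  kond_of_large h hidx fun α ho hα x hx => by
    obtain ⟨g, rfl⟩ := hout α ho
    rw [MulAut.conj_apply]
    rw [MulAut.conj_apply, mul_inv_eq_iff_eq_mul] at hα
    exact h.conj_mem g hα x hx

end LargeCase

/-! ### Inner automorphisms -/

/-- an inner automorphism of odd order is the conjugation by an element of odd order -/
theorem exists_odd [Finite K] {g : K} (hodd : Odd (orderOf (MulAut.conj g))) :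
    ∃ g' : K, Odd (orderOf g') ∧ MulAut.conj g' = MulAut.conj g := by
  have hfact : Fact (Nat.Prime 2) := ⟨Nat.prime_two⟩
  obtain ⟨k, m, hm, hk⟩ := Nat.exists_eq_two_pow_mul_odd (orderOf_pos g).ne'
  have hcop : Nat.Coprime (2 ^ k) (orderOf (MulAut.conj g)) :=
    Nat.Coprime.pow_left k ((Nat.coprime_two_left).2 hodd)
  obtain ⟨a, ha1, ha2⟩ := Nat.chineseRemainder hcop 0 1
  refine ⟨g ^ a, ?_, ?_⟩
  · rw [Nat.modEq_zero_iff_dvd] at ha1
    obtain ⟨b, rfl⟩ := ha1
    rw [pow_mul]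
    refine (hm.of_dvd_nat ?_ : Odd _)
    refine (orderOf_pow_dvd b).trans ?_
    rw [orderOf_pow, hk, Nat.gcd_eq_right (dvd_mul_right _ _)]
    rw [Nat.mul_div_cancel_left _ (by positivity)]
  · rw [map_pow]
    have h1 : MulAut.conj g ^ a = MulAut.conj g ^ 1 := pow_eq_pow_iff_modEq.2 ha2
    rw [h1, pow_one]

/-- the Sylow 2-normaliser has only trivial odd elements (on `S`), all automorphisms of odd order are inner -/
theorem kond_of_inner [Finite K] (S₀ : Sylow 2 K)
    (hout : ∀ α : MulAut K, Odd (orderOf α) → ∃ g : K, α = MulAut.conj g)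
    (h : ∀ g : K, Odd (orderOf g) → (∀ s ∈ (S₀ : Subgroup K), g * s * g⁻¹ ∈ (S₀ : Subgroup K)) →
      ∀ s ∈ (S₀ : Subgroup K), g * s = s * g) : Kond K := by
  refine kond_of_sylow S₀ fun t ht hS _ => Or.inl ?_
  obtain ⟨g, rfl⟩ := hout t ht
  obtain ⟨g', hg', e⟩ := exists_odd ht
  rw [← e] at hS ⊢
  intro s hs
  rw [MulAut.conj_apply, mul_inv_eq_iff_eq_mul]
  exact h g' hg' (fun s hs => by simpa using hS s hs) s hs

/-- the outer automorphism group is a 2-group -/
theorem inner_of_pow (h : ∀ α : MulAut K, ∃ n : ℕ, ∃ g : K, α ^ 2 ^ n = MulAut.conj g) :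
    ∀ α : MulAut K, Odd (orderOf α) → ∃ g : K, α = MulAut.conj g := by
  intro α hα
  obtain ⟨n, g, hg⟩ := h α
  have hcop : Nat.Coprime (2 ^ n) (orderOf α) := Nat.Coprime.pow_left n ((Nat.coprime_two_left).2 hα)
  obtain ⟨a, ha1, ha2⟩ := Nat.chineseRemainder hcop 0 1
  rw [Nat.modEq_zero_iff_dvd] at ha1
  obtain ⟨b, rfl⟩ := ha1
  refine ⟨g ^ b, ?_⟩
  have h1 : α ^ (2 ^ n * b) = α ^ 1 := pow_eq_pow_iff_modEq.2 ha2
  rw [pow_one, pow_mul, hg, ← map_pow] at h1
  exact h1.symm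

/-- the outer automorphism group is a 2-group -/
theorem inner_of_index [Finite K] {n : ℕ} (h : (MulAut.conj : K →* MulAut K).range.index = 2 ^ n) :
    ∀ α : MulAut K, Odd (orderOf α) → ∃ g : K, α = MulAut.conj g := by
  refine inner_of_pow fun α => ⟨n, ?_⟩
  have hn : (MulAut.conj : K →* MulAut K).range.Normal := by
    refine ⟨?_⟩
    rintro _ ⟨g, rfl⟩ β
    refine ⟨β g, ?_⟩
    ext x
    simp [MulAut.conj_apply]
  have h1 : α ^ (MulAut.conj : K →* MulAut K).range.index ∈ (MulAut.conj : K →* MulAut K).range :=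
    Subgroup.pow_index_mem _ α
  rw [h] at h1
  obtain ⟨g, hg⟩ := h1
  exact ⟨g, hg.symm⟩

end Cfsg.Agent.Omega.Kond.Base

end

-- merged: Cfsg.Agent.Omega.Kond.Rigid
section

/-!
# Two-groups without automorphisms of odd order

* `Rigid S`: every automorphism of odd order of `S` is trivial; `kond_of_rigid`.
* tools: `fix_of_sq` (`t² x ≡ x`), `fix_of_swap` (two cosets are permuted), `fix_all` (the cosets fixed by `t` form a
  subgroup of index at most 2), `eq_one_of_mod` (`Φ ≤ frattini`).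
-/

set_option autoImplicit false
set_option linter.dupNamespace false

namespace Cfsg.Agent.Omega.Kond.Rigid

open Subgroup Cfsg.Agent.Omega.Kond.Base

universe u v

/-- no automorphisms of odd order -/
def Rigid (S : Type u) [Group S] : Prop := ∀ t : MulAut S, Odd (orderOf t) → t = 1

variable {S : Type u} [Group S]

theorem Rigid.congr {S' : Type v} [Group S'] (e : S ≃* S') (h : Rigid S) : Rigid S' := by
  intro t ht
  have h1 : (MulAut.congr e).symm t = 1 := by
    apply h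
    have : orderOf ((MulAut.congr e).symm t) = orderOf t :=
      orderOf_injective (MulAut.congr e).symm.toMonoidHom (MulAut.congr e).symm.injective t
    rw [this]; exact ht
  have h2 := congrArg (MulAut.congr e) h1
  rwa [MulEquiv.apply_symm_apply, map_one] at h2

section Restrict

variable {K : Type u} [Group K]

/-- the restriction of an automorphism to an invariant finite subgroup -/
theorem exists_restrict {S : Subgroup K} [Finite S] (t : MulAut K) (hS : ∀ s ∈ S, t s ∈ S) :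
    ∃ r : MulAut S, (∀ s : S, ((r s : S) : K) = t s) ∧ (Odd (orderOf t) → Odd (orderOf r)) := by
  let f : S →* S := (t.toMonoidHom.comp S.subtype).codRestrict S fun s => hS s s.2
  have hf : Function.Injective f := by
    intro a b hab
    have h1 := congrArg Subtype.val hab
    exact Subtype.ext (t.injective h1)
  let r : MulAut S := MulEquiv.ofBijective f (Finite.injective_iff_bijective.1 hf)
  have hr : ∀ s : S, ((r s : S) : K) = t s := fun _ => rfl
  refine ⟨r, hr, fun hodd => ?_⟩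
  refine hodd.of_dvd_nat (orderOf_dvd_of_pow_eq_one ?_)
  have hp : ∀ (n : ℕ) (s : S), (((r ^ n) s : S) : K) = (t ^ n) s := by
    intro n
    induction n with
    | zero => intro s; rfl
    | succ n ih =>
      intro s
      rw [pow_succ, pow_succ, MulAut.mul_apply, MulAut.mul_apply, ih, hr]
  apply MulEquiv.ext
  intro s
  apply Subtype.ext
  rw [hp, pow_orderOf_eq_one]
  rfl

theorem kondAt_of_rigid {S : Subgroup K} [Finite S] (h : Rigid S) : KondAt S := by
  intro t ht hS _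
  left
  obtain ⟨r, hr, hro⟩ := exists_restrict t hS
  have h1 := h r (hro ht)
  intro s hs
  have h2 := hr ⟨s, hs⟩
  rw [h1] at h2
  exact h2.symm

theorem kond_of_rigid [Finite K] {T : Type v} [Group T] (hT : Rigid T) (S₀ : Sylow 2 K)
    (e : T ≃* (S₀ : Subgroup K)) : Kond K :=
  kond_of_sylow S₀ (kondAt_of_rigid (hT.congr e))

/-- elementary abelian Sylow subgroups -/
theorem kond_of_elementary (h : ∀ (S : Sylow 2 K), ∀ s ∈ (S : Subgroup K), s * s = 1) : Kond K :=
  fun S _ _ _ _ => Or.inr (h S)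

end Restrict

/-! ### Fixed cosets -/

section Fix

variable {t : MulAut S} {Φ : Subgroup S}

theorem mod_symm (x y : S) (h : x * y⁻¹ ∈ Φ) : y * x⁻¹ ∈ Φ := by
  have h1 := Φ.inv_mem h
  rwa [mul_inv_rev, inv_inv] at h1

theorem mod_trans {x y w : S} (h : x * y⁻¹ ∈ Φ) (h' : y * w⁻¹ ∈ Φ) : x * w⁻¹ ∈ Φ := by
  have h1 := Φ.mul_mem h h'
  have e : x * y⁻¹ * (y * w⁻¹) = x * w⁻¹ := by group
  rwa [e] at h1

theorem map_mod (hΦ : ∀ x ∈ Φ, t x ∈ Φ) {x y : S} (h : x * y⁻¹ ∈ Φ) : t x * (t y)⁻¹ ∈ Φ := by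
  have h1 := hΦ _ h
  rwa [map_mul, map_inv] at h1

theorem pow_mod (hΦ : ∀ x ∈ Φ, t x ∈ Φ) {x : S} (h : t x * x⁻¹ ∈ Φ) (n : ℕ) : (t ^ n) x * x⁻¹ ∈ Φ := by
  induction n with
  | zero => rw [pow_zero, MulAut.one_apply, mul_inv_cancel]; exact Φ.one_mem
  | succ n ih =>
    rw [pow_succ', MulAut.mul_apply]
    exact mod_trans (map_mod hΦ ih) h

/-- `t² x ≡ x` -/
theorem fix_of_sq (ht : Odd (orderOf t)) (hΦ : ∀ x ∈ Φ, t x ∈ Φ) {x : S} (h : t (t x) * x⁻¹ ∈ Φ) :
    t x * x⁻¹ ∈ Φ := by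
  obtain ⟨m, hm⟩ := ht
  have h1 : (t ^ (2 * m + 1)) = 1 := by rw [← hm]; exact pow_orderOf_eq_one t
  have h2 : ∀ k : ℕ, (t ^ (2 * k)) x * x⁻¹ ∈ Φ := by
    intro k
    induction k with
    | zero => rw [mul_zero, pow_zero, MulAut.one_apply, mul_inv_cancel]; exact Φ.one_mem
    | succ k ih =>
      have e : 2 * (k + 1) = 2 + 2 * k := by ring
      rw [e, pow_add, MulAut.mul_apply, pow_two, MulAut.mul_apply]
      exact mod_trans (map_mod hΦ (map_mod hΦ ih)) h
  have h3 := map_mod hΦ (h2 m)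
  rw [← MulAut.mul_apply, ← pow_succ', h1, MulAut.one_apply] at h3
  exact mod_symm _ _ h3

/-- two cosets are permuted -/
theorem fix_of_swap (ht : Odd (orderOf t)) (hΦ : ∀ x ∈ Φ, t x ∈ Φ) {x y : S}
    (hx : t x * x⁻¹ ∈ Φ ∨ t x * y⁻¹ ∈ Φ) (hy : t y * x⁻¹ ∈ Φ ∨ t y * y⁻¹ ∈ Φ) : t x * x⁻¹ ∈ Φ := by
  apply fix_of_sq ht hΦ
  rcases hx with hx | hx
  · exact mod_trans (map_mod hΦ hx) hx
  · rcases hy with hy | hy
    · exact mod_trans (map_mod hΦ hx) hy
    · -- `t (t x) ≡ t y ≡ y ≡ t x`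
      have h1 : t (t x) * (t x)⁻¹ ∈ Φ := mod_trans (map_mod hΦ hx) (mod_trans hy (mod_symm _ _ hx))
      -- apply the inverse of `t`
      have h2 : ∀ x ∈ Φ, (t ^ (orderOf t - 1)) x ∈ Φ := by
        intro x hx
        generalize orderOf t - 1 = n
        induction n with
        | zero => exact hx
        | succ n ih => rw [pow_succ', MulAut.mul_apply]; exact hΦ _ ih
      have h3 := h2 _ h1
      have e : (t ^ (orderOf t - 1)) * t = 1 := by
        rw [← pow_succ]
        have : orderOf t - 1 + 1 = orderOf t := by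
          obtain ⟨m, hm⟩ := ht
          omega
        rw [this]; exact pow_orderOf_eq_one t
      have e' : ∀ w : S, (t ^ (orderOf t - 1)) (t w) = w := fun w => by
        rw [← MulAut.mul_apply, e, MulAut.one_apply]
      rw [map_mul, map_inv, e', e'] at h3
      exact mod_trans (map_mod hΦ h3) h3

/-- the elements whose coset is fixed -/
def fixS (t : MulAut S) (Φ : Subgroup S) (hn : Φ.Normal) : Subgroup S where
  carrier := {x | t x * x⁻¹ ∈ Φ}
  one_mem' := by
    show t 1 * 1⁻¹ ∈ Φ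
    rw [map_one, inv_one, mul_one]; exact Φ.one_mem
  mul_mem' := fun {a b} ha hb => by
    show t (a * b) * (a * b)⁻¹ ∈ Φ
    have e : t (a * b) * (a * b)⁻¹ = t a * (t b * b⁻¹) * (t a)⁻¹ * (t a * a⁻¹) := by
      rw [map_mul]; group
    rw [e]
    exact Φ.mul_mem (hn.conj_mem _ hb _) ha
  inv_mem' := fun {a} ha => by
    show t a⁻¹ * a⁻¹⁻¹ ∈ Φ
    have e : t a⁻¹ * a⁻¹⁻¹ = (t a)⁻¹ * (t a * a⁻¹)⁻¹ * (t a)⁻¹⁻¹ := by
      rw [map_inv]; group
    rw [e]
    exact hn.conj_mem _ (Φ.inv_mem ha) _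

theorem mem_fixS {hn : Φ.Normal} {x : S} : x ∈ fixS t Φ hn ↔ t x * x⁻¹ ∈ Φ := Iff.rfl

/-- one step down: `t` is trivial on `S / F` and on `F / Φ` -/
theorem step (ht : Odd (orderOf t)) (hΦ : ∀ x ∈ Φ, t x ∈ Φ) {F : Subgroup S}
    (h1 : ∀ x, t x * x⁻¹ ∈ F) (h2 : ∀ x ∈ F, t x * x⁻¹ ∈ Φ) (h3 : ∀ x ∈ F, x * x ∈ Φ) :
    ∀ x, t x * x⁻¹ ∈ Φ := by
  intro x
  apply fix_of_sq ht hΦ
  -- `t (t x) = t f * t x ≡ f f x`
  have h4 := h2 _ (h1 x)
  have h5 := h3 _ (h1 x)
  have e : t (t x) * x⁻¹ = t (t x * x⁻¹) * (t x * x⁻¹)⁻¹ * ((t x * x⁻¹) * (t x * x⁻¹)) := by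
    rw [map_mul, map_inv]; group
  rw [e]
  exact Φ.mul_mem h4 h5

/-- the cosets fixed by `t` form a subgroup of index at most 2 -/
theorem fix_all (ht : Odd (orderOf t)) (hn : Φ.Normal) (hΦ : ∀ x ∈ Φ, t x ∈ Φ) (hsq : ∀ x, x * x ∈ Φ)
    (h : ∀ x y, ¬ t x * x⁻¹ ∈ Φ → ¬ t y * y⁻¹ ∈ Φ → t (x * y⁻¹) * (x * y⁻¹)⁻¹ ∈ Φ) :
    ∀ x, t x * x⁻¹ ∈ Φ := by
  refine step ht hΦ (F := fixS t Φ hn) ?_ (fun x hx => hx) (fun x _ => hsq x)
  intro x
  by_cases hx : t x * x⁻¹ ∈ Φ
  · show t (t x * x⁻¹) * (t x * x⁻¹)⁻¹ ∈ Φ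
    exact Φ.mul_mem (hΦ _ hx) (Φ.inv_mem hx)
  · apply h _ _ _ hx
    intro h1
    apply hx
    -- `t (t x) ≡ t x`
    exact fix_of_sq ht hΦ (by
      have h2 : ∀ x ∈ Φ, (t ^ (orderOf t - 1)) x ∈ Φ := by
        intro x hx
        generalize orderOf t - 1 = n
        induction n with
        | zero => exact hx
        | succ n ih => rw [pow_succ', MulAut.mul_apply]; exact hΦ _ ih
      have e : (t ^ (orderOf t - 1)) * t = 1 := by
        rw [← pow_succ]
        have : orderOf t - 1 + 1 = orderOf t := by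
          obtain ⟨m, hm⟩ := ht
          omega
        rw [this]; exact pow_orderOf_eq_one t
      have e' : ∀ w : S, (t ^ (orderOf t - 1)) (t w) = w := fun w => by
        rw [← MulAut.mul_apply, e, MulAut.one_apply]
      have h3 := h2 _ h1
      rw [map_mul, map_inv, e', e'] at h3
      exact absurd h3 hx)

/-- generators in the fixed cosets or in one more coset -/
theorem fix_all_gen (ht : Odd (orderOf t)) (hn : Φ.Normal) (hΦ : ∀ x ∈ Φ, t x ∈ Φ) (hsq : ∀ x, x * x ∈ Φ)
    (g : S) {X : Set S} (hX : closure X = ⊤)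
    (h : ∀ x ∈ X, t x * x⁻¹ ∈ Φ ∨ t (x * g⁻¹) * (x * g⁻¹)⁻¹ ∈ Φ) : ∀ x, t x * x⁻¹ ∈ Φ := by
  set F : Subgroup S := fixS t Φ hn with hF
  have hΦF : Φ ≤ F := fun x hx => Φ.mul_mem (hΦ _ hx) (Φ.inv_mem hx)
  -- commutators
  have hcomm : ∀ a b : S, a * b * a⁻¹ * b⁻¹ ∈ Φ := by
    intro a b
    have e : a * b * a⁻¹ * b⁻¹ = (a * b) * (a * b) * ((b⁻¹ * (a⁻¹ * a⁻¹) * b⁻¹⁻¹) * (b⁻¹ * b⁻¹)) := by group
    rw [e]
    exact Φ.mul_mem (hsq _) (Φ.mul_mem (hn.conj_mem _ (hsq _) _) (hsq _))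
  have hFn : ∀ x ∈ F, ∀ a : S, a * x * a⁻¹ ∈ F := by
    intro x hx a
    have e : a * x * a⁻¹ = (a * x * a⁻¹ * x⁻¹) * x := by group
    rw [e]
    exact F.mul_mem (hΦF (hcomm a x)) hx
  have hg2 : g * g ∈ F := hΦF (hsq g)
  let P : Subgroup S :=
    { carrier := {x | x ∈ F ∨ x * g⁻¹ ∈ F}
      one_mem' := Or.inl F.one_mem
      mul_mem' := fun {x y} hx hy => by
        rcases hx with hx | hx <;> rcases hy with hy | hy
        · exact Or.inl (F.mul_mem hx hy)
        · right; rw [mul_assoc]; exact F.mul_mem hx hy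
        · right
          have e : x * y * g⁻¹ = (x * g⁻¹) * (g * y * g⁻¹) := by group
          rw [e]; exact F.mul_mem hx (hFn y hy g)
        · left
          have e : x * y = (x * g⁻¹) * (g * (y * g⁻¹) * g⁻¹) * (g * g) := by group
          rw [e]; exact F.mul_mem (F.mul_mem hx (hFn _ hy g)) hg2
      inv_mem' := fun {x} hx => by
        rcases hx with hx | hx
        · exact Or.inl (F.inv_mem hx)
        · right
          have e : x⁻¹ * g⁻¹ = ((g * (x * g⁻¹) * g⁻¹) * (g * g))⁻¹ := by group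
          rw [e]; exact F.inv_mem (F.mul_mem (hFn _ hx g) hg2) }
  have hP : ∀ x : S, x ∈ F ∨ x * g⁻¹ ∈ F := by
    intro x
    have h1 : closure X ≤ P := (closure_le _).2 fun x hx => h x hx
    rw [hX] at h1
    exact h1 (mem_top x)
  refine fix_all ht hn hΦ hsq fun x y hx hy => ?_
  have h1 := (hP x).resolve_left hx
  have h2 := (hP y).resolve_left hy
  have e : x * y⁻¹ = (x * g⁻¹) * (y * g⁻¹)⁻¹ := by group
  have h3 : x * y⁻¹ ∈ F := by rw [e]; exact F.mul_mem h1 (F.inv_mem h2)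
  exact h3

/-- `Φ ≤ frattini S` -/
theorem eq_one_of_mod [Finite S] (hS : IsPGroup 2 S) (ht : Odd (orderOf t)) (hΦ : Φ ≤ frattini S)
    (h : ∀ x, t x * x⁻¹ ∈ Φ) : t = 1 := by
  have : Fact (Nat.Prime 2) := ⟨Nat.prime_two⟩
  exact Cfsg.Agent.Schreier.Tools2.eq_one_of_coprime hS t ((Nat.coprime_two_right).2 ht) fun x => hΦ (h x)

end Fix

end Cfsg.Agent.Omega.Kond.Rigid

end

-- merged: Cfsg.Agent.Omega.Kond.RowM22
section

/-!
# (KOND') for `M22`, `M23`, `McL`

The Sylow 2-subgroup `T` of order 128 has no automorphisms of odd order.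
-/

set_option autoImplicit false

namespace Cfsg.Agent.Omega.Kond.RowM22

open Subgroup Cfsg Cfsg.Agent.Golay.Orbit Cfsg.Agent.Schreier.SylMTwentyTwo Cfsg.Agent.Omega.Kond.Base
  Cfsg.Agent.Omega.Kond.Rigid

/-- membership by squares: `l = m m w` for some `m` -/
def sqm (w l : List ℕ) : Bool := els.any fun m => mulL (mulL m m) w == l

/-- the tables of the generators -/
def t0 : List ℕ := gl.getD 0 []
def t1 : List ℕ := gl.getD 1 []
def t2 : List ℕ := gl.getD 2 []

theorem chk1 : (els.all fun l => (pow4 l == idL) || sqm t2 l) = true := by decide +kernel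

def w1 : List ℕ := mulL t2 t2
def y2 : List ℕ := mulL t2 (mulL t0 t0)
def w2 : List ℕ := mulL y2 y2
def b0 : List ℕ := mulL t1 t0

theorem chk2 : (els.all fun l => !(mulL l w1 == mulL w1 l) || !(mulL l w2 == mulL w2 l) || sqm idL l || sqm b0 l) = true := by
  decide +kernel

theorem chk3 : (els.all fun l => (pow4 l == idL) || (mulL b0 (mulL l l) == mulL (mulL l l) b0)) = true := by
  decide +kernel

theorem chk4 : (!(pow4 y2 == idL)) = true := by decide +kernel

/-! ### elements -/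

theorem exists_tab (x : T) : ∃ l ∈ els, Rp (x : Equiv.Perm GolayPt) l := exists_mem_els x.2

theorem sqm_spec {w l : List ℕ} {x y : T} (hx : Rp (x : Equiv.Perm GolayPt) l) (hy : Rp (y : Equiv.Perm GolayPt) w)
    (h : sqm w l = true) : x * y⁻¹ ∈ frattini T := by
  have : Fact (Nat.Prime 2) := ⟨Nat.prime_two⟩
  rw [sqm, List.any_eq_true] at h
  obtain ⟨m, hm, h1⟩ := h
  rw [beq_iff_eq] at h1
  obtain ⟨g, hg, hr⟩ := exists_els hm
  have h2 : x = (⟨g, hg⟩ : T) * ⟨g, hg⟩ * y := by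
    apply Subtype.ext
    have h3 := (hr.mul hr).mul hy
    rw [h1] at h3
    exact hx.inj h3
  rw [h2, mul_inv_cancel_right, ← pow_two]
  exact Cfsg.Agent.Lib.FrattiniPGroup.pow_mem_frattini isPGroup_T _

theorem pow4_of {l : List ℕ} {x : T} (hx : Rp (x : Equiv.Perm GolayPt) l) (h : (pow4 l == idL) = true) : x ^ 4 = 1 := by
  apply Subtype.ext
  have h1 := rp_pow4 hx
  rw [beq_iff_eq] at h
  rw [h] at h1
  exact h1.inj rp_one

theorem pow4_ne {l : List ℕ} {x : T} (hx : Rp (x : Equiv.Perm GolayPt) l) (h : ¬ (pow4 l == idL) = true) : x ^ 4 ≠ 1 := by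
  intro h1
  apply h
  rw [beq_iff_eq]
  have h2 := rp_pow4 hx
  have h3 : (x : Equiv.Perm GolayPt) ^ 4 = 1 := congrArg Subtype.val h1
  rw [h3] at h2
  exact h2.unique rp_one

theorem rp_t (k : Fin 3) : Rp (tgen k : Equiv.Perm GolayPt) (gl.getD k []) := rp_gen k

/-- elements of order 8 -/
theorem eight {x : T} (h : x ^ 4 ≠ 1) : x * (tgen 2)⁻¹ ∈ frattini T := by
  obtain ⟨l, hl, hr⟩ := exists_tab x
  have h1 := List.all_eq_true.1 chk1 l hl
  rw [Bool.or_eq_true] at h1
  rcases h1 with h1 | h1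
  · exact absurd (pow4_of hr h1) h
  · exact sqm_spec hr (rp_t 2) h1

theorem two_ne : (tgen 2) ^ 4 ≠ 1 := fun h => gen_two_pow (congrArg Subtype.val h)

/-- the second element of order 8 -/
noncomputable def yy : T := tgen 2 * (tgen 0 * tgen 0)

theorem rp_yy : Rp (yy : Equiv.Perm GolayPt) y2 := (rp_t 2).mul ((rp_t 0).mul (rp_t 0))

theorem yy_ne : yy ^ 4 ≠ 1 := pow4_ne rp_yy (by
  have h := chk4
  rw [Bool.not_eq_true'] at h
  rw [h]
  exact Bool.false_ne_true)

/-- the element `b₀` -/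
noncomputable def bb : T := tgen 1 * tgen 0

theorem rp_bb : Rp (bb : Equiv.Perm GolayPt) b0 := (rp_t 1).mul (rp_t 0)

theorem comm_of {l m : List ℕ} {x y : T} (hx : Rp (x : Equiv.Perm GolayPt) l) (hy : Rp (y : Equiv.Perm GolayPt) m) :
    x * y = y * x ↔ (mulL l m == mulL m l) = true := by
  rw [beq_iff_eq]
  constructor
  · intro h
    have h1 := hx.mul hy
    have h2 := hy.mul hx
    have h3 : (x : Equiv.Perm GolayPt) * y = y * x := congrArg Subtype.val h
    rw [h3] at h1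
    exact h1.unique h2
  · intro h
    apply Subtype.ext
    have h1 := hx.mul hy
    rw [h] at h1
    exact h1.inj (hy.mul hx)

/-- `B = {x | x` centralises the squares of the elements of order 8`}` -/
def PB (x : T) : Prop := ∀ y : T, y ^ 4 ≠ 1 → x * (y * y) = (y * y) * x

theorem PB_bb : PB bb := by
  intro y hy
  obtain ⟨l, hl, hr⟩ := exists_tab y
  have h1 := List.all_eq_true.1 chk3 l hl
  rw [Bool.or_eq_true] at h1
  rcases h1 with h1 | h1
  · exact absurd (pow4_of hr h1) hy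
  · exact (comm_of rp_bb (hr.mul hr)).2 h1

theorem PB_cases {x : T} (h : PB x) : x ∈ frattini T ∨ x * bb⁻¹ ∈ frattini T := by
  obtain ⟨l, hl, hr⟩ := exists_tab x
  have h1 := List.all_eq_true.1 chk2 l hl
  have e1 := (comm_of hr ((rp_t 2).mul (rp_t 2))).1 (h _ two_ne)
  have e2 := (comm_of hr (rp_yy.mul rp_yy)).1 (h _ yy_ne)
  simp only [Bool.or_eq_true, Bool.not_eq_true'] at h1
  rcases h1 with ((h1 | h1) | h1) | h1
  · exact absurd (e1.symm.trans h1) (by decide)
  · exact absurd (e2.symm.trans h1) (by decide)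
  · left
    have h2 := sqm_spec (y := 1) hr rp_one h1
    rwa [inv_one, mul_one] at h2
  · exact Or.inr (sqm_spec hr rp_bb h1)

/-- **`T` has no automorphisms of odd order** -/
theorem rigid : Rigid T := by
  intro t ht
  have : Fact (Nat.Prime 2) := ⟨Nat.prime_two⟩
  have hΦ : ∀ x ∈ frattini T, t x ∈ frattini T := fun x hx =>
    (characteristic_iff_le_comap.1 (inferInstance : (frattini T).Characteristic) t) hx
  have hΦ' : ∀ x, t x ∈ frattini T → x ∈ frattini T := fun x hx => by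
    have h := (characteristic_iff_le_comap.1 (inferInstance : (frattini T).Characteristic) t.symm) hx
    rwa [mem_comap, MulEquiv.coe_toMonoidHom, MulEquiv.symm_apply_apply] at h
  have hn : (frattini T).Normal := inferInstance
  have hsq : ∀ x : T, x * x ∈ frattini T := fun x => by
    rw [← pow_two]
    exact Cfsg.Agent.Lib.FrattiniPGroup.pow_mem_frattini isPGroup_T x
  -- `g₂`
  have h2 : t (tgen 2) * (tgen 2)⁻¹ ∈ frattini T := by
    apply eight
    rw [← map_pow]
    intro h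
    exact two_ne ((map_eq_one_iff t t.injective).1 h)
  -- `b₀`
  have hb : t bb * bb⁻¹ ∈ frattini T := by
    have h3 : PB (t bb) := by
      intro y hy
      have h4 : (t.symm y) ^ 4 ≠ 1 := by
        rw [← map_pow]
        intro h
        exact hy ((map_eq_one_iff t.symm t.symm.injective).1 h)
      have h5 := congrArg t (PB_bb _ h4)
      simpa only [map_mul, MulEquiv.apply_symm_apply] using h5
    rcases PB_cases h3 with h4 | h4
    · exact (frattini T).mul_mem h4 ((frattini T).inv_mem (hΦ' _ h4))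
    · exact h4
  refine eq_one_of_mod isPGroup_T ht le_rfl
    (fix_all_gen ht hn hΦ hsq (tgen 0) closure_tgen fun x hx => ?_)
  rw [Finset.mem_coe, Finset.mem_image] at hx
  obtain ⟨k, -, rfl⟩ := hx
  fin_cases k
  · right
    show t (tgen 0 * (tgen 0)⁻¹) * (tgen 0 * (tgen 0)⁻¹)⁻¹ ∈ frattini T
    rw [mul_inv_cancel, map_one, inv_one, mul_one]
    exact (frattini T).one_mem
  · right
    show t (tgen 1 * (tgen 0)⁻¹) * (tgen 1 * (tgen 0)⁻¹)⁻¹ ∈ frattini T
    have e : tgen 1 * (tgen 0)⁻¹ = bb * ((tgen 0)⁻¹ * (tgen 0)⁻¹) := by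
      rw [bb]; group
    rw [e]
    have h5 : bb ∈ fixS t (frattini T) hn := hb
    have h6 : (tgen 0)⁻¹ * (tgen 0)⁻¹ ∈ fixS t (frattini T) hn :=
      (frattini T).mul_mem (hΦ _ (hsq _)) ((frattini T).inv_mem (hsq _))
    exact (mul_mem h5 h6 : _ ∈ fixS t (frattini T) hn)
  · exact Or.inl h2

/-! ### The rows -/

theorem kond_of_card {K : Type*} [Group K] [Finite K] (f : T →* K) (hf : Function.Injective f) {m : ℕ}
    (hc : Nat.card K = 128 * m) (hm : ¬ 2 ∣ m) : Kond K := by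
  have : Fact (Nat.Prime 2) := ⟨Nat.prime_two⟩
  have e := MonoidHom.ofInjective hf
  have h1 : Nat.card f.range = 2 ^ (Nat.card K).factorization 2 := by
    rw [← Nat.card_congr e.toEquiv, card_T, hc]
    have hm0 : m ≠ 0 := by rintro rfl; exact hm (dvd_zero 2)
    have h2 : (128 * m).factorization 2 = 7 := by
      rw [show (128 : ℕ) = 2 ^ 7 by norm_num, Nat.factorization_mul (by norm_num) hm0,
        Nat.Prime.factorization_pow Nat.prime_two, Finsupp.add_apply, Finsupp.single_eq_same,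
        Nat.factorization_eq_zero_of_not_dvd hm]
    rw [h2]
    norm_num
  exact kond_of_rigid rigid (Sylow.ofCard f.range h1) e

theorem kond_M22 : Kond Spor.M22 := by
  have hc := Cfsg.Agent.SporadicA.MathieuRecog.card_M22
  have : Finite Spor.M22 := Nat.finite_of_card_ne_zero (by rw [hc]; norm_num)
  exact kond_of_card (inclusion T_le) (inclusion_injective T_le) (m := 3465) hc (by norm_num)

theorem T_le_M23 : T ≤ Spor.M23 := fun _ hg => (T_le hg).1

theorem kond_M23 : Kond Spor.M23 := by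
  have hc := Cfsg.Agent.SporadicA.MathieuRecog.card_M23
  have : Finite Spor.M23 := Nat.finite_of_card_ne_zero (by rw [hc]; norm_num)
  exact kond_of_card (inclusion T_le_M23) (inclusion_injective T_le_M23) (m := 79695) hc (by norm_num)

universe u

/-- **(KOND') for `M22`** -/
theorem row_M22 {K : Type u} [Group K] (h : Spor.IsoM22 K) : Kond K := by
  obtain ⟨e⟩ := h
  have hc := Cfsg.Agent.SporadicA.MathieuRecog.card_M22
  have : Finite Spor.M22 := Nat.finite_of_card_ne_zero (by rw [hc]; norm_num)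
  exact kond_M22.congr e.symm

/-- **(KOND') for `M23`** -/
theorem row_M23 {K : Type u} [Group K] (h : Spor.IsoM23 K) : Kond K := by
  obtain ⟨e⟩ := h
  have hc := Cfsg.Agent.SporadicA.MathieuRecog.card_M23
  have : Finite Spor.M23 := Nat.finite_of_card_ne_zero (by rw [hc]; norm_num)
  exact kond_M23.congr e.symm

end Cfsg.Agent.Omega.Kond.RowM22

end

-- merged: Cfsg.Agent.QTNorm.SporRigid
section

/-!
# Sylow 2-normalizers: `M22`, `M23` (S1825, helper26)

The Sylow 2-subgroup of order 128 has no automorphisms of odd order (`Omega/Kond/RowM22.lean`).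
-/

set_option autoImplicit false

namespace Cfsg.Agent.QTNorm

open Cfsg Subgroup
open Cfsg.Agent.Omega.Kond.Rigid (Rigid Rigid.congr)

universe u v

/-- even characteristic and a Sylow 2-subgroup without automorphisms of odd order -/
theorem NT.of_rigid {G : Type u} [Group G] [Finite G] (hE : IsOfEvenCharacteristic G) {T : Type v} [Group T]
    (hT : Rigid T) (f : T →* G) (hf : Function.Injective f)
    (hc : Nat.card T = 2 ^ (Nat.card G).factorization 2) (h1 : Nat.card T ≠ 1) : NT G := by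
  have : Fact (Nat.Prime 2) := ⟨Nat.prime_two⟩
  let e : T ≃* f.range := MonoidHom.ofInjective hf
  have hc' : Nat.card f.range = 2 ^ (Nat.card G).factorization 2 := by
    rw [← Nat.card_congr e.toEquiv, hc]
  refine NT.of_self_one (Sylow.ofCard f.range hc') (self_of_odd_aut hE _ ?_ ?_)
  · intro hb
    apply h1
    rw [Nat.card_congr e.toEquiv]
    have : f.range = ⊥ := hb
    rw [this, Subgroup.card_bot]
  · exact hT.congr e

open Cfsg.Agent.Schreier.SylMTwentyTwo Cfsg.Agent.Omega.Kond.RowM22 in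
theorem nt_of_card {G : Type u} [Group G] [Finite G] (hE : IsOfEvenCharacteristic G)
    (f : T →* G) (hf : Function.Injective f) {m : ℕ} (hc : Nat.card G = 128 * m) (hm : ¬ 2 ∣ m) : NT G := by
  refine NT.of_rigid hE rigid f hf ?_ (by rw [card_T]; norm_num)
  have hm0 : m ≠ 0 := by rintro rfl; exact hm (dvd_zero 2)
  have h2 : (128 * m).factorization 2 = 7 := by
    rw [show (128 : ℕ) = 2 ^ 7 by norm_num, Nat.factorization_mul (by norm_num) hm0,
      Nat.Prime.factorization_pow Nat.prime_two, Finsupp.add_apply, Finsupp.single_eq_same,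
      Nat.factorization_eq_zero_of_not_dvd hm]
  rw [card_T, hc, h2]
  norm_num

open Cfsg.Agent.Schreier.SylMTwentyTwo Cfsg.Agent.Omega.Kond.RowM22 in
/-- **`M22`** -/
theorem nt_m22 {G : Type u} [Group G] (hE : IsOfEvenCharacteristic G) (h : Spor.IsoM22 G) : NT G := by
  obtain ⟨e⟩ := h
  have hc := Cfsg.Agent.SporadicA.MathieuRecog.card_M22
  have hc' : Nat.card G = 128 * 3465 := by rw [Nat.card_congr e.toEquiv]; exact hc
  have : Finite G := Nat.finite_of_card_ne_zero (by rw [hc']; norm_num)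
  exact nt_of_card hE (e.symm.toMonoidHom.comp (inclusion T_le))
    (e.symm.injective.comp (inclusion_injective T_le)) hc' (by norm_num)

open Cfsg.Agent.Schreier.SylMTwentyTwo Cfsg.Agent.Omega.Kond.RowM22 in
/-- **`M23`** -/
theorem nt_m23 {G : Type u} [Group G] (hE : IsOfEvenCharacteristic G) (h : Spor.IsoM23 G) : NT G := by
  obtain ⟨e⟩ := h
  have hc := Cfsg.Agent.SporadicA.MathieuRecog.card_M23
  have hc' : Nat.card G = 128 * 79695 := by rw [Nat.card_congr e.toEquiv]; exact hc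
  have : Finite G := Nat.finite_of_card_ne_zero (by rw [hc']; norm_num)
  exact nt_of_card hE (e.symm.toMonoidHom.comp (inclusion T_le_M23))
    (e.symm.injective.comp (inclusion_injective T_le_M23)) hc' (by norm_num)

end Cfsg.Agent.QTNorm

end
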