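import Cfsg.Agent.QTNorm.SporBase
set_option linter.all false

/-!
# Sylow 2-normalizers: odd elements, normal subgroups of 2-power index (S1825, helper26)

* `selfN_of_odd` : it suffices that no nontrivial element of odd order normalises `T`;
* `selfN_of_normal` : a normal subgroup of 2-power index.
-/

set_option autoImplicit false

namespace Cfsg.Agent.QTNorm

open Cfsg Subgroup

section normal

variable {G : Type*} [Group G]

/-- the intersection of a Sylow subgroup with a normal subgroup -/
theorem not_dvd_index_inf [Finite G] (T : Sylow 2 G) (N : Subgroup G) [N.Normal] :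
    ¬ 2 ∣ ((T : Subgroup G).subgroupOf N).index := by
  have hf : Fact (Nat.Prime 2) := ⟨Nat.prime_two⟩
  have h1 : (T : Subgroup G).relIndex ((T : Subgroup G) ⊔ N) ∣ (T : Subgroup G).index :=
    relIndex_dvd_index_of_le le_sup_left
  have h2 : ¬ 2 ∣ (T : Subgroup G).index := T.not_dvd_index
  have h3 : ((T : Subgroup G).subgroupOf N).index = (T : Subgroup G).relIndex ((T : Subgroup G) ⊔ N) := by
    have e1 := card_mul_index ((T : Subgroup G).subgroupOf N)
    have e2 : Nat.card ((T : Subgroup G).subgroupOf N) = Nat.card ((T : Subgroup G) ⊓ N : Subgroup G) := by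
      rw [← inf_subgroupOf_right]
      exact Nat.card_congr (subgroupOfEquivOfLe inf_le_right).toEquiv
    have e3 : Nat.card (N.subgroupOf (T : Subgroup G)) = Nat.card ((T : Subgroup G) ⊓ N : Subgroup G) := by
      rw [← inf_subgroupOf_left]
      exact Nat.card_congr (subgroupOfEquivOfLe inf_le_left).toEquiv
    have e4 := card_mul_index (N.subgroupOf (T : Subgroup G))
    have e5 := card_mul_index (N.subgroupOf ((T : Subgroup G) ⊔ N))
    have e6 := card_mul_index ((T : Subgroup G).subgroupOf ((T : Subgroup G) ⊔ N))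
    have e7 : Nat.card (N.subgroupOf ((T : Subgroup G) ⊔ N)) = Nat.card N :=
      Nat.card_congr (subgroupOfEquivOfLe le_sup_right).toEquiv
    have e8 : Nat.card ((T : Subgroup G).subgroupOf ((T : Subgroup G) ⊔ N)) = Nat.card T :=
      Nat.card_congr (subgroupOfEquivOfLe le_sup_left).toEquiv
    have e9 : (N.subgroupOf ((T : Subgroup G) ⊔ N)).index = (N.subgroupOf (T : Subgroup G)).index :=
      relIndex_sup_right (H := (T : Subgroup G)) (K := N)
    rw [e7, e9] at e5
    rw [e8] at e6
    rw [e3] at e4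
    rw [e2] at e1
    have h0 : 0 < (N.subgroupOf (T : Subgroup G)).index := Nat.pos_of_ne_zero FiniteIndex.index_ne_zero
    have h0' : 0 < Nat.card ((T : Subgroup G) ⊓ N : Subgroup G) := Nat.card_pos
    have h4 : (Nat.card ((T : Subgroup G) ⊓ N : Subgroup G) * (N.subgroupOf (T : Subgroup G)).index) *
        ((T : Subgroup G).subgroupOf N).index =
        (Nat.card ((T : Subgroup G) ⊓ N : Subgroup G) * (N.subgroupOf (T : Subgroup G)).index) *
        ((T : Subgroup G).subgroupOf ((T : Subgroup G) ⊔ N)).index := by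
      calc _ = (Nat.card ((T : Subgroup G) ⊓ N : Subgroup G) * ((T : Subgroup G).subgroupOf N).index) *
            (N.subgroupOf (T : Subgroup G)).index := by ring
        _ = Nat.card N * (N.subgroupOf (T : Subgroup G)).index := by rw [e1]
        _ = Nat.card T * ((T : Subgroup G).subgroupOf ((T : Subgroup G) ⊔ N)).index := by rw [e5, e6]
        _ = _ := by rw [e4]
    exact Nat.eq_of_mul_eq_mul_left (Nat.mul_pos h0' h0) h4
  rw [h3]
  exact fun h => h2 (h.trans h1)

/-- it suffices that no nontrivial element of odd order normalises the Sylow subgroup -/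
theorem selfN_of_odd [Finite G] (T : Sylow 2 G)
    (h : ∀ x ∈ normalizer ((T : Subgroup G) : Set G), Odd (orderOf x) → x = 1) : SelfN G := by
  have hf : Fact (Nat.Prime 2) := ⟨Nat.prime_two⟩
  refine SelfN.of_one T ?_
  have h2 : IsPGroup 2 (normalizer ((T : Subgroup G) : Set G)) := by
    rw [IsPGroup.iff_orderOf]
    intro x
    obtain ⟨m, k, hk, hm⟩ := Nat.exists_eq_two_pow_mul_odd (n := orderOf x) (orderOf_pos x).ne'
    have h1 : ((x : G) ^ (2 ^ m)) = 1 := by
      apply h
      · exact pow_mem x.2 _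
      · rw [orderOf_pow, orderOf_coe, hm]
        rw [Nat.gcd_eq_right (Dvd.intro k rfl), Nat.mul_div_cancel_left _ (by positivity)]
        exact hk
    have h3 : orderOf x ∣ 2 ^ m := by
      rw [← orderOf_coe]
      exact orderOf_dvd_of_pow_eq_one h1
    obtain ⟨j, -, hj⟩ := (Nat.dvd_prime_pow Nat.prime_two).1 h3
    exact ⟨j, hj⟩
  have h3 := T.is_maximal' h2 le_normalizer
  exact h3.le

theorem eq_one_of_odd_mem [Finite G] (T : Sylow 2 G) {x : G} (hx : x ∈ T) (ho : Odd (orderOf x)) : x = 1 := by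
  have hf : Fact (Nat.Prime 2) := ⟨Nat.prime_two⟩
  obtain ⟨k, hk⟩ := T.isPGroup' ⟨x, hx⟩
  have h1 : x ^ 2 ^ k = 1 := congrArg Subtype.val hk
  have h2 : orderOf x ∣ 2 ^ k := orderOf_dvd_of_pow_eq_one h1
  have h3 : Nat.Coprime (orderOf x) (2 ^ k) := Nat.Coprime.pow_right k (Nat.coprime_two_right.2 ho)
  have h4 : orderOf x ∣ 1 := h3 ▸ Nat.dvd_gcd (dvd_refl _) h2
  exact orderOf_eq_one_iff.1 (Nat.dvd_one.1 h4)

/-- an element of odd order is in every normal subgroup of 2-power index -/
theorem mem_of_odd_index {N : Subgroup G} [N.Normal] {k : ℕ} (hi : N.index = 2 ^ k) {x : G}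
    (ho : Odd (orderOf x)) : x ∈ N := by
  have h1 : (QuotientGroup.mk' N x) ^ N.index = 1 := by
    rw [index]
    exact pow_card_eq_one'
  rw [hi] at h1
  have h2 : orderOf (QuotientGroup.mk' N x) ∣ 2 ^ k := orderOf_dvd_of_pow_eq_one h1
  have h3 : orderOf (QuotientGroup.mk' N x) ∣ orderOf x := orderOf_map_dvd _ _
  have h4 : Nat.Coprime (orderOf x) (2 ^ k) := Nat.Coprime.pow_right k (Nat.coprime_two_right.2 ho)
  have h5 : orderOf (QuotientGroup.mk' N x) ∣ 1 := h4 ▸ Nat.dvd_gcd h3 h2
  have h6 := orderOf_eq_one_iff.1 (Nat.dvd_one.1 h5)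
  exact (QuotientGroup.eq_one_iff x).1 h6

/-- **A normal subgroup of 2-power index.** -/
theorem selfN_of_normal [Finite G] (N : Subgroup G) [N.Normal] {k : ℕ} (hi : N.index = 2 ^ k) (hN : SelfN N) :
    SelfN G := by
  have hf : Fact (Nat.Prime 2) := ⟨Nat.prime_two⟩
  obtain ⟨T⟩ : Nonempty (Sylow 2 G) := inferInstance
  refine selfN_of_odd T fun x hx ho => ?_
  have hxN : x ∈ N := mem_of_odd_index hi ho
  have hp : IsPGroup 2 ((T : Subgroup G).subgroupOf N) := T.isPGroup'.comap_of_injective _ N.subtype_injective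
  let S : Sylow 2 N := hp.toSylow (not_dvd_index_inf T N)
  have hS : ((S : Sylow 2 N) : Subgroup N) = (T : Subgroup G).subgroupOf N := rfl
  have h1 : (⟨x, hxN⟩ : N) ∈ normalizer ((S : Subgroup N) : Set N) := by
    rw [hS, mem_normalizer_iff]
    intro y
    rw [mem_subgroupOf, mem_subgroupOf]
    exact mem_normalizer_iff.1 hx y
  have h2 := hN S h1
  rw [hS, mem_subgroupOf] at h2
  exact eq_one_of_odd_mem T h2 ho

end normal

end Cfsg.Agent.QTNorm
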